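import Mathlib
import Cfsg.Agent.Lib.SL2.Solvable
import Cfsg.Agent.Lib.Functor.LocalZJ
import Cfsg.Agent.Lib.PSolvable.HallHigman
import Cfsg.Agent.Lib.PSolvable.PSolv
import Cfsg.Agent.Lib.PSolvable.CoprimeQuot
import Cfsg.Agent.Lib.Hall.Solvable

/-!
General lemmas for groups whose `p'`-subgroups are abelian of exponent dividing `p - 1`.
-/

set_option autoImplicit false

namespace Cfsg.Agent.Lib.PrimeAbelian

open Subgroup

theorem not_isSolvable_SL {p : ℕ} [Fact p.Prime] (h5 : 5 ≤ p) :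
    ¬ Group.IsSolvable (Matrix.SpecialLinearGroup (Fin 2) (ZMod p)) := fun hs =>
  Cfsg.Agent.Lib.SL2.not_isSolvable_PSL (F := ZMod p) (by rw [ZMod.card]; omega)
    (Group.isSolvable_of_surjective (f := QuotientGroup.mk' _) (QuotientGroup.mk'_surjective _))

/-- A finite solvable group with abelian Sylow `q`-subgroup `Q` is `O_{q'} N(Q)`. -/
theorem pPrimeCore_sup_normalizer_sylow {X : Type*} [Group X] [Finite X] [Group.IsSolvable X]
    {q : ℕ} [Fact q.Prime] (Q : Sylow q X) (hQ : IsMulCommutative (Q : Subgroup X)) :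
    Cfsg.pPrimeCore q X ⊔ normalizer ((Q : Subgroup X) : Set X) = ⊤ := by
  set N := Cfsg.pPrimeCore q X with hN
  set f := QuotientGroup.mk' N with hf
  have hfs : Function.Surjective f := QuotientGroup.mk'_surjective N
  have hker : f.ker = N := QuotientGroup.ker_mk' N
  have hcop : (Nat.card N).Coprime q := PSolvable.pPrimeCore_coprime
  let Q' : Sylow q (X ⧸ N) := Q.mapSurjective hfs
  have hc := PSolvable.centralizer_pCore_le_of_isPSolvable
    (PSolvable.isPSolvable_quotient (PSolvable.isPSolvable_of_isSolvable (p := q)) N)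
    PSolvable.pPrimeCore_quotient_eq_bot
  have hle : ((Q : Subgroup X).map f) ≤ Cfsg.pCore q (X ⧸ N) := by
    refine le_trans ?_ hc
    rintro _ ⟨x, hx, rfl⟩
    refine mem_centralizer_iff.2 fun y hy => ?_
    obtain ⟨z, hz, rfl⟩ := (PSolvable.pCore_le_sylow Q') hy
    rw [← map_mul, ← map_mul]
    exact congrArg f (congrArg Subtype.val (hQ.is_comm.comm ⟨z, hz⟩ ⟨x, hx⟩))
  have he : (Q : Subgroup X).map f = Cfsg.pCore q (X ⧸ N) :=
    le_antisymm hle (PSolvable.pCore_le_sylow Q')
  have h1 : normalizer (((Q : Subgroup X).map f : Subgroup (X ⧸ N)) : Set (X ⧸ N)) = ⊤ := by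
    rw [he]
    have := PSolvable.pCore_characteristic (p := q) (G := X ⧸ N)
    exact normalizer_eq_top _
  rw [PSolvable.normalizer_map_mk' N hcop Q.2] at h1
  rw [sup_comm, ← hker, ← comap_map_eq, h1, comap_top]

/-- A finite solvable group, `p ≥ 5`, is `O_{p'} N(Z(J(P)))`. -/
theorem pPrimeCore_sup_normalizer_zj {X : Type*} [Group X] [Finite X] [Group.IsSolvable X]
    {p : ℕ} [Fact p.Prime] (h5 : 5 ≤ p) (P : Sylow p X) :
    Cfsg.pPrimeCore p X ⊔ normalizer (ZJ.zj 0 (P : Subgroup X) : Set X) = ⊤ := by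
  set N := Cfsg.pPrimeCore p X with hN
  set f := QuotientGroup.mk' N with hf
  have hfs : Function.Surjective f := QuotientGroup.mk'_surjective N
  have hker : f.ker = N := QuotientGroup.ker_mk' N
  have hcop : (Nat.card N).Coprime p := PSolvable.pPrimeCore_coprime
  let P' : Sylow p (X ⧸ N) := P.mapSurjective hfs
  have hp2 : p ≠ 2 := by omega
  have hsolv : Group.IsSolvable (X ⧸ N) := Group.isSolvable_of_surjective (f := f) hfs
  have hc := PSolvable.centralizer_pCore_le_of_isPSolvable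
    (PSolvable.isPSolvable_of_isSolvable (p := p) (G := X ⧸ N)) PSolvable.pPrimeCore_quotient_eq_bot
  have hst : ZJ.StableOn p (P' : Subgroup (X ⧸ N)) := by
    intro R _ hR A hA hq
    refine ZJ.map_le_pCore_of_stableAt R ?_
    by_contra hs
    obtain ⟨A', B', hn, ⟨e⟩⟩ := ZJ.exists_sl2_section_of_not_stableAt hp2 hR
      (fun a _ => (normalizer_eq_top R).symm ▸ mem_top a) hq hs
    have : Group.IsSolvable A' := inferInstance
    exact not_isSolvable_SL h5
      (Group.isSolvable_of_surjective (f := e.toMonoidHom.comp (QuotientGroup.mk' _))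
        (e.surjective.comp (QuotientGroup.mk'_surjective _)))
  have hn := ZJ.zj_normal hp2 (Or.inl rfl) hc P' hst
  have hz : ZJ.zj 0 (P' : Subgroup (X ⧸ N)) = (ZJ.zj 0 (P : Subgroup X)).map f :=
    ZJ.zj_map f (ZJ.injOn_of_coprime f P.2 (by rw [hker]; exact PSolvable.pPrimeCore_not_dvd))
  rw [hz] at hn
  have h1 := normalizer_eq_top_iff.2 hn
  rw [PSolvable.normalizer_map_mk' N hcop (P.2.to_le (ZJ.zj_le 0 _))] at h1
  rw [sup_comm, ← hker, ← comap_map_eq, h1, comap_top]

/-- A Hall `p'`-subgroup containing a given `p'`-subgroup. -/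
theorem exists_hall_ge {G : Type*} [Group G] [Finite G] {p : ℕ} [hp : Fact p.Prime] {H U : Subgroup G}
    (hH : Group.IsSolvable H) (hUH : U ≤ H) (hU : (Nat.card U).Coprime p) :
    ∃ L : Subgroup G, L ≤ H ∧ U ≤ L ∧ (Nat.card L).Coprime p ∧
      ∃ k : ℕ, Nat.card H = Nat.card L * p ^ k := by
  set k := (Nat.card H).factorization p with hk
  set m := Nat.card H / p ^ k with hm
  have hne : Nat.card H ≠ 0 := Nat.card_pos.ne'
  have hcm : Nat.card H = m * p ^ k :=
    (Nat.div_mul_cancel (Nat.ordProj_dvd (Nat.card H) p)).symm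
  have hmp : m.Coprime p := (Nat.coprime_ordCompl hp.out hne).symm
  have hU' : Nat.card (U.subgroupOf H) = Nat.card U := Nat.card_congr (subgroupOfEquivOfLe hUH).toEquiv
  obtain ⟨L, hL, hUL⟩ := Hall.exists_card_eq_ge hcm (Nat.Coprime.pow_right k hmp)
    (K := U.subgroupOf H) (by rw [hU']; exact Nat.Coprime.pow_right k hU)
  refine ⟨L.map H.subtype, map_subtype_le L, ?_, ?_, k, ?_⟩
  · intro u hu
    exact ⟨⟨u, hUH hu⟩, hUL hu, rfl⟩
  · rw [card_map_of_injective H.subtype_injective, hL]; exact hmp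
  · rw [card_map_of_injective H.subtype_injective, hL]; exact hcm

/-- The elements of order dividing `q` in an abelian subgroup. -/
def omega {G : Type*} [Group G] (q : ℕ) (Q : Subgroup G) : Subgroup G :=
  closure {x : G | x ∈ Q ∧ x ^ q = 1}

theorem omega_le {G : Type*} [Group G] (q : ℕ) (Q : Subgroup G) : omega q Q ≤ Q :=
  (closure_le Q).2 fun _ hx => hx.1

theorem mem_omega {G : Type*} [Group G] {q : ℕ} {Q : Subgroup G} (hQ : IsMulCommutative Q) {x : G} :
    x ∈ omega q Q ↔ x ∈ Q ∧ x ^ q = 1 := by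
  refine ⟨fun hx => ?_, fun hx => subset_closure hx⟩
  induction hx using closure_induction with
  | mem y hy => exact hy
  | one => exact ⟨one_mem _, one_pow _⟩
  | mul a b _ _ ha hb =>
    refine ⟨mul_mem ha.1 hb.1, ?_⟩
    rw [(show Commute a b from congrArg Subtype.val (hQ.is_comm.comm ⟨a, ha.1⟩ ⟨b, hb.1⟩)).mul_pow,
      ha.2, hb.2, one_mul]
  | inv a _ ha => exact ⟨inv_mem ha.1, by rw [inv_pow, ha.2, inv_one]⟩

theorem isElementaryAbelian_omega {G : Type*} [Group G] {q : ℕ} {Q : Subgroup G}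
    (hQ : IsMulCommutative Q) : Cfsg.IsElementaryAbelian q (omega q Q) :=
  ⟨⟨⟨fun a b => Subtype.ext (congrArg (fun z : Q => (z : G))
    (hQ.is_comm.comm ⟨a, omega_le q Q a.2⟩ ⟨b, omega_le q Q b.2⟩))⟩⟩,
    fun _ ha => ((mem_omega hQ).1 ha).2⟩

theorem not_isCyclic_of_exp {G : Type*} [Group G] [Finite G] {q : ℕ} (hq : 2 ≤ q) {A : Subgroup G}
    (h : ∀ a ∈ A, a ^ q = 1) (hc : q ^ 2 ≤ Nat.card A) : ¬ IsCyclic A := by
  intro hA
  obtain ⟨g, hg⟩ := hA.exists_ofOrder_eq_natCard
  have h1 : orderOf g ∣ q := orderOf_dvd_of_pow_eq_one (Subtype.ext (by simpa using h g g.2))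
  have h2 := Nat.le_of_dvd (by omega) h1
  have h3 : q < q ^ 2 := lt_self_pow₀ (by omega) (by omega)
  omega

/-- A nontrivial coprime action of a `p`-element on an abelian `q`-group, `q + 1 < p`, needs rank
at least three. -/
theorem pow_three_le_card_omega {G : Type*} [Group G] [Finite G] {p q : ℕ} [hp : Fact p.Prime]
    [hq : Fact q.Prime] (hqp : q + 1 < p) {Q : Subgroup G} (hQc : IsMulCommutative Q)
    (hQ : IsPGroup q Q) {u : G} (hu : u ∈ normalizer (Q : Set G)) {k : ℕ} (huk : u ^ p ^ k = 1)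
    (hne : ∃ x ∈ Q, u * x ≠ x * u) : q ^ 3 ≤ Nat.card (omega q Q) := by
  set A := omega q Q with hA
  have hQcomm : ∀ a ∈ Q, ∀ b ∈ Q, Commute a b := fun a ha b hb =>
    congrArg Subtype.val (hQc.is_comm.comm ⟨a, ha⟩ ⟨b, hb⟩)
  have hAn : u ∈ normalizer (A : Set G) := by
    have key : ∀ v ∈ normalizer (Q : Set G), ∀ x ∈ A, v * x * v⁻¹ ∈ A := fun v hv x hx =>
      (mem_omega hQc).2 ⟨(mem_normalizer_iff.1 hv x).1 ((mem_omega hQc).1 hx).1,
        by rw [conj_pow, ((mem_omega hQc).1 hx).2, mul_one, mul_inv_cancel]⟩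
    refine mem_normalizer_iff.2 fun x => ⟨key u hu x, fun h => ?_⟩
    simpa [mul_assoc] using key u⁻¹ (inv_mem hu) _ h
  have hne' : ∃ x ∈ A, u * x ≠ x * u := by
    by_contra hcon
    push Not at hcon
    obtain ⟨x, hx, hxu⟩ := hne
    have key : ∀ n : ℕ, ∀ x ∈ Q, x ^ q ^ n = 1 → u * x = x * u := by
      intro n
      induction n with
      | zero => intro x _ hx1; rw [pow_zero, pow_one] at hx1; simp [hx1]
      | succ n ih =>
        intro x hxQ hxn
        have hy : u * x ^ q = x ^ q * u := ih _ (pow_mem hxQ q) (by rw [← pow_mul, ← pow_succ', hxn])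
        set d := u * x * u⁻¹ * x⁻¹ with hd
        have hdQ : d ∈ Q := mul_mem ((mem_normalizer_iff.1 hu x).1 hxQ) (inv_mem hxQ)
        have hdq : d ^ q = 1 := by
          rw [hd, (hQcomm _ ((mem_normalizer_iff.1 hu x).1 hxQ) _ (inv_mem hxQ)).mul_pow, conj_pow,
            hy, mul_inv_cancel_right, inv_pow, mul_inv_cancel]
        have hdu : u * d = d * u := hcon d ((mem_omega hQc).2 ⟨hdQ, hdq⟩)
        have hi : ∀ i : ℕ, u ^ i * x * (u ^ i)⁻¹ = d ^ i * x := by
          intro i
          induction i with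
          | zero => simp
          | succ i ihi =>
            have h1 : u * x * u⁻¹ = d * x := by rw [hd]; group
            have h2 : u * d ^ i * u⁻¹ = d ^ i := by
              rw [(show Commute u d from hdu).pow_right i |>.eq, mul_inv_cancel_right]
            calc u ^ (i + 1) * x * (u ^ (i + 1))⁻¹ = u * (u ^ i * x * (u ^ i)⁻¹) * u⁻¹ := by
                  rw [pow_succ']; group
              _ = u * (d ^ i * x) * u⁻¹ := by rw [ihi]
              _ = (u * d ^ i * u⁻¹) * (u * x * u⁻¹) := by group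
              _ = d ^ (i + 1) * x := by rw [h2, h1, pow_succ]; exact (mul_assoc _ _ _).symm
        have h3 := hi (p ^ k)
        rw [huk, one_mul, inv_one, mul_one, right_eq_mul] at h3
        have hd1 : d = 1 := by
          have := Nat.dvd_gcd (orderOf_dvd_of_pow_eq_one h3) (orderOf_dvd_of_pow_eq_one hdq)
          rw [Nat.Coprime.gcd_eq_one (Nat.Coprime.pow_left k
            ((Nat.coprime_primes hp.out hq.out).2 (by omega))), Nat.dvd_one] at this
          exact orderOf_eq_one_iff.1 this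
        have : u * x * u⁻¹ * x⁻¹ = 1 := hd1
        rw [mul_inv_eq_one, mul_inv_eq_iff_eq_mul] at this
        exact this
    obtain ⟨n, hn⟩ := hQ ⟨x, hx⟩
    exact hxu (key n x hx (by simpa using congrArg Subtype.val hn))
  let W := zpowers u
  have hW : IsPGroup p W := IsPGroup.of_card_dvd_pow (n := k) (by
    rw [Nat.card_zpowers]; exact orderOf_dvd_of_pow_eq_one huk)
  have hWn : W ≤ normalizer (A : Set G) := zpowers_le.2 hAn
  let : MulAction W A :=
    { smul := fun w x => ⟨(w : G) * x * (w : G)⁻¹, (mem_normalizer_iff.1 (hWn w.2) x).1 x.2⟩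
      one_smul := fun x => Subtype.ext (show (1 : G) * x * (1 : G)⁻¹ = x by group)
      mul_smul := fun v w x => Subtype.ext
        (show ((v : G) * w) * x * ((v : G) * w)⁻¹ = v * (w * x * (w : G)⁻¹) * (v : G)⁻¹ by group) }
  have hmod := hW.card_modEq_card_fixedPoints A
  let F : Subgroup A := (centralizer ({u} : Set G)).subgroupOf A
  have hF : (MulAction.fixedPoints W A) = (F : Set A) := by
    ext x
    constructor
    · intro hx
      have := congrArg Subtype.val (hx ⟨u, mem_zpowers u⟩)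
      change u * x * u⁻¹ = x at this
      refine mem_subgroupOf.2 (mem_centralizer_singleton_iff.2 ?_)
      exact (mul_inv_eq_iff_eq_mul.1 this).symm
    · intro hx w
      obtain ⟨i, hi⟩ := mem_zpowers_iff.1 w.2
      have hc : Commute u (x : G) :=
        (mem_centralizer_singleton_iff.1 (mem_subgroupOf.1 hx)).symm
      refine Subtype.ext (show (w : G) * x * (w : G)⁻¹ = x from ?_)
      rw [← hi, (hc.zpow_left i).eq, mul_inv_cancel_right]
  rw [hF] at hmod
  have hmod' : Nat.card A ≡ Nat.card F [MOD p] := hmod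
  obtain ⟨r, hr⟩ := IsPGroup.iff_card.1 (hQ.to_le (omega_le q Q) : IsPGroup q A)
  obtain ⟨s, hs⟩ := IsPGroup.iff_card.1 ((hQ.to_le (omega_le q Q) : IsPGroup q A).to_subgroup F)
  have hlt : Nat.card F < Nat.card A := by
    refine lt_of_le_of_ne (card_le_card_group F) fun he => ?_
    obtain ⟨x, hx, hxu⟩ := hne'
    have : (⟨x, hx⟩ : A) ∈ F := (eq_top_of_card_eq F he) ▸ mem_top _
    exact hxu (mem_centralizer_singleton_iff.1 (mem_subgroupOf.1 this)).symm
  rw [hr, hs] at hlt
  have hsr : s < r := (Nat.pow_lt_pow_iff_right hq.out.one_lt).1 hlt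
  rw [hr]
  refine Nat.pow_le_pow_right hq.out.pos ?_
  by_contra hr3
  rw [hr, hs] at hmod'
  obtain ⟨j, rfl⟩ : ∃ j, r = s + j := ⟨r - s, by omega⟩
  have hj : p ∣ q ^ j - 1 := by
    have h1 := (Nat.modEq_iff_dvd' (Nat.pow_le_pow_right hq.out.pos (by omega))).1 hmod'.symm
    rw [pow_add, ← Nat.mul_sub_one] at h1
    exact (Nat.Coprime.pow_right s ((Nat.coprime_primes hp.out hq.out).2 (by omega))).dvd_of_dvd_mul_left h1
  have hq2 := hq.out.two_le
  have h2 : j = 1 ∨ j = 2 := by omega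
  rcases h2 with rfl | rfl
  · rw [pow_one] at hj
    have := Nat.le_of_dvd (by omega) hj
    omega
  · have e : q ^ 2 - 1 = (q + 1) * (q - 1) := by
      simpa using Nat.sq_sub_sq q 1
    rw [e] at hj
    rcases hp.out.dvd_mul.1 hj with h | h <;> · have := Nat.le_of_dvd (by omega) h; omega

end Cfsg.Agent.Lib.PrimeAbelian
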