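import Mathlib
import Cfsg.Agent.Lib.PrimeAbelian.Basic
import Cfsg.Agent.Lib.Transfer.Abelian
import Cfsg.Agent.Lib.Transfer.SmallSylow
import Cfsg.Agent.Lib.Transfer.Criteria
import Cfsg.Agent.Lib.FusionMod.Basic

/-!
A minimal counterexample: a simple group whose proper subgroups are solvable and whose
`p'`-subgroups are abelian of exponent dividing `p - 1`.
-/

set_option autoImplicit false

namespace Cfsg.Agent.Lib.PrimeAbelian

open Subgroup
open scoped Pointwise commutatorElement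

/-- The configuration to refute. -/
structure Setting (G : Type*) [Group G] (p : ℕ) : Prop where
  five : 5 ≤ p
  simple : IsSimpleGroup G
  not_solvable : ¬ Group.IsSolvable G
  solv : ∀ H : Subgroup G, H ≠ ⊤ → Group.IsSolvable H
  ab : ∀ H : Subgroup G, (Nat.card H).Coprime p → IsMulCommutative H ∧ ∀ x ∈ H, x ^ (p - 1) = 1

/-- `O_{p'}(H)` inside the ambient group. -/
def pp (p : ℕ) {G : Type*} [Group G] (H : Subgroup G) : Subgroup G :=
  (Cfsg.pPrimeCore p H).map H.subtype

section pp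

variable {G : Type*} [Group G] [Finite G] {p : ℕ}

theorem pp_le (H : Subgroup G) : pp p H ≤ H := map_subtype_le _

theorem pp_coprime (H : Subgroup G) : (Nat.card (pp p H)).Coprime p := by
  rw [pp, card_map_of_injective H.subtype_injective]
  exact PSolvable.pPrimeCore_coprime

theorem le_normalizer_pp (H : Subgroup G) : H ≤ normalizer (pp p H : Set G) := by
  have h1 := le_normalizer_map (H := Cfsg.pPrimeCore p H) H.subtype
  rwa [normalizer_eq_top, ← MonoidHom.range_eq_map, range_subtype] at h1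

theorem conj_mem_pp {H : Subgroup G} {g x : G} (hg : g ∈ H) (hx : x ∈ pp p H) :
    g * x * g⁻¹ ∈ pp p H :=
  (mem_normalizer_iff.1 (le_normalizer_pp H hg) x).1 hx

theorem le_pp {H U : Subgroup G} (hUH : U ≤ H) (hn : H ≤ normalizer (U : Set G))
    (hc : (Nat.card U).Coprime p) : U ≤ pp p H := by
  have : (U.subgroupOf H).Normal := (normal_subgroupOf_iff_le_normalizer hUH).2 hn
  intro x hx
  exact ⟨⟨x, hUH hx⟩, PSolvable.le_pPrimeCore
    (by rwa [Nat.card_congr (subgroupOfEquivOfLe hUH).toEquiv]) (mem_subgroupOf.2 hx), rfl⟩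

/-- Every normalizer of `H` normalizes `O_{p'}(H)`. -/
theorem normalizer_le_normalizer_pp (H : Subgroup G) :
    normalizer (H : Set G) ≤ normalizer (pp p H : Set G) := by
  intro g hg
  refine PSolvable.mem_normalizer_of_conj_mem fun x hx => ?_
  let φ : G →* G := (MulAut.conj g).toMonoidHom
  have hsub : (pp p H).map φ ≤ pp p H := by
    refine le_pp ?_ ?_ ?_
    · rintro _ ⟨y, hy, rfl⟩
      exact (mem_normalizer_iff.1 hg y).1 (pp_le H hy)
    · intro h hh
      refine PSolvable.mem_normalizer_of_conj_mem ?_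
      rintro _ ⟨y, hy, rfl⟩
      refine ⟨(g⁻¹ * h * g) * y * (g⁻¹ * h * g)⁻¹, conj_mem_pp ?_ hy, ?_⟩
      · exact (mem_normalizer_iff''.1 hg h).1 hh
      · simp only [φ, MulEquiv.coe_toMonoidHom, MulAut.conj_apply]
        group
    · rw [card_map_of_injective (MulAut.conj g).injective]
      exact pp_coprime H
  exact hsub ⟨x, hx, rfl⟩

end pp

theorem exists_conj_mem {G : Type*} [Group G] [Finite G] {q : ℕ} [Fact q.Prime] {M U : Subgroup G}
    (Q : Sylow q G) (hQM : (Q : Subgroup G) ≤ M) (hUM : U ≤ M) (hU : IsPGroup q U) :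
    ∃ m ∈ M, ∀ x ∈ U, m * x * m⁻¹ ∈ (Q : Subgroup G) := by
  obtain ⟨S, hS⟩ := (hU.comap_subtype (K := M)).exists_le_sylow
  obtain ⟨m, hm⟩ := MulAction.exists_smul_eq M S (Q.subtype hQM)
  refine ⟨m, m.2, fun x hx => ?_⟩
  have h1 : m * ⟨x, hUM hx⟩ * m⁻¹ ∈ ((m • S : Sylow q M) : Subgroup M) := by
    rw [Sylow.coe_subgroup_smul, mem_pointwise_smul_iff_inv_smul_mem]
    refine hS ?_
    show (((MulAut.conj m)⁻¹ • (m * ⟨x, hUM hx⟩ * m⁻¹) : M) : G) ∈ U
    rw [MulAut.smul_def, MulAut.conj_inv_apply]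
    simp [mul_assoc, hx]
  rw [hm, Sylow.coe_subtype] at h1
  exact h1

theorem exists_sylow_ge_le {G : Type*} [Group G] [Finite G] {q : ℕ} [Fact q.Prime] {M U : Subgroup G}
    (Q : Sylow q G) (hQM : (Q : Subgroup G) ≤ M) (hUM : U ≤ M) (hU : IsPGroup q U) :
    ∃ Q' : Sylow q G, U ≤ Q' ∧ (Q' : Subgroup G) ≤ M := by
  obtain ⟨m, hm, h⟩ := exists_conj_mem Q hQM hUM hU
  refine ⟨m⁻¹ • Q, fun x hx => ?_, fun x hx => ?_⟩
  · rw [SetLike.mem_coe.symm]
    show x ∈ ((m⁻¹ • Q : Sylow q G) : Subgroup G)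
    rw [Sylow.coe_subgroup_smul, mem_pointwise_smul_iff_inv_smul_mem]
    simpa [MulAut.smul_def, mul_assoc] using h x hx
  · rw [Sylow.coe_subgroup_smul, mem_pointwise_smul_iff_inv_smul_mem] at hx
    have := hQM hx
    simp only [map_inv, inv_inv, MulAut.smul_def, MulAut.conj_apply] at this
    have h2 := mul_mem (mul_mem (inv_mem hm) this) hm
    simpa [mul_assoc] using h2

namespace Setting

variable {G : Type*} [Group G] [Finite G] {p : ℕ} [hp : Fact p.Prime] (hS : Setting G p)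

include hS

theorem normal_eq {N : Subgroup G} (hN : N.Normal) : N = ⊥ ∨ N = ⊤ :=
  hS.simple.eq_bot_or_eq_top_of_normal N hN

theorem ne_top_of_solvable {H : Subgroup G} (h : Group.IsSolvable H) : H ≠ ⊤ := by
  rintro rfl
  exact hS.not_solvable (Group.isSolvable_of_surjective (f := (topEquiv (G := G)).toMonoidHom)
    topEquiv.surjective)

theorem ne_top_of_pGroup {q : ℕ} [Fact q.Prime] {H : Subgroup G} (h : IsPGroup q H) : H ≠ ⊤ :=
  hS.ne_top_of_solvable (by have := h.isNilpotent; infer_instance)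

theorem normalizer_ne_top {H : Subgroup G} (h1 : H ≠ ⊥) (h2 : H ≠ ⊤) :
    normalizer (H : Set G) ≠ ⊤ := fun h =>
  (hS.normal_eq (normalizer_eq_top_iff.1 h)).elim h1 h2

theorem exists_ne_comm : ∃ x y : G, x * y ≠ y * x := by
  by_contra h
  push Not at h
  exact hS.not_solvable (Group.isSolvable_of_comm h)

theorem centralizer_ne_top {x : G} (hx : x ≠ 1) : centralizer ({x} : Set G) ≠ ⊤ := by
  intro h
  rcases hS.normal_eq (inferInstance : (center G).Normal) with h1 | h1
  · refine hx ?_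
    have : x ∈ center G := mem_center_iff.2 fun g =>
      mem_centralizer_singleton_iff.1 (h ▸ mem_top g)
    rwa [h1, mem_bot] at this
  · obtain ⟨a, b, hab⟩ := hS.exists_ne_comm
    exact hab (mem_center_iff.1 (h1 ▸ mem_top b) a)

theorem solvable_centralizer {x : G} (hx : x ≠ 1) : Group.IsSolvable (centralizer ({x} : Set G)) :=
  hS.solv _ (hS.centralizer_ne_top hx)

omit [Finite G] hp in
theorem comm_of_coprime {H : Subgroup G} (h : (Nat.card H).Coprime p) {x y : G} (hx : x ∈ H)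
    (hy : y ∈ H) : x * y = y * x :=
  congrArg Subtype.val ((hS.ab H h).1.is_comm.comm ⟨x, hx⟩ ⟨y, hy⟩)

theorem coprime_of_pGroup {q : ℕ} [hq : Fact q.Prime] (hqp : q ≠ p) {H : Subgroup G}
    (h : IsPGroup q H) : (Nat.card H).Coprime p := by
  obtain ⟨n, hn⟩ := IsPGroup.iff_card.1 h
  rw [hn]
  exact Nat.Coprime.pow_left n ((Nat.coprime_primes hq.out hp.out).2 hqp)

theorem sylow_comm {q : ℕ} [Fact q.Prime] (hqp : q ≠ p) {H : Subgroup G} (h : IsPGroup q H) :
    IsMulCommutative H :=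
  (hS.ab H (hS.coprime_of_pGroup hqp h)).1

theorem p_dvd_card : p ∣ Nat.card G := by
  by_contra h
  refine hS.not_solvable ?_
  have hc : IsMulCommutative (⊤ : Subgroup G) := (hS.ab ⊤ (by
    rw [card_top]; exact (hp.out.coprime_iff_not_dvd.2 h).symm)).1
  exact Group.isSolvable_of_comm fun a b =>
    congrArg Subtype.val (hc.is_comm.comm ⟨a, mem_top a⟩ ⟨b, mem_top b⟩)

theorem prime_dvd_sub_one {q : ℕ} [hq : Fact q.Prime] (hd : q ∣ Nat.card G) (hqp : q ≠ p) :
    q ∣ p - 1 := by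
  obtain ⟨x, hx⟩ := exists_prime_orderOf_dvd_card' q hd
  have hc : (Nat.card (zpowers x)).Coprime p := by
    rw [Nat.card_zpowers, hx]; exact (Nat.coprime_primes hq.out hp.out).2 hqp
  have := (hS.ab _ hc).2 x (mem_zpowers x)
  rw [← hx]
  exact orderOf_dvd_of_pow_eq_one this

theorem succ_lt {q : ℕ} [hq : Fact q.Prime] (hd : q ∣ Nat.card G) (hqp : q ≠ p) : q + 1 < p := by
  have h1 := hS.prime_dvd_sub_one hd hqp
  have h2 := Nat.le_of_dvd (by have := hS.five; omega) h1
  rcases Nat.lt_or_ge (q + 1) p with h | h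
  · exact h
  · exfalso
    have he : p = q + 1 := by omega
    have h5 := hS.five
    rcases hp.out.eq_two_or_odd with h2' | h2'
    · omega
    · rcases hq.out.eq_two_or_odd with hq' | hq' <;> omega

theorem commutator_eq_top : commutator G = ⊤ := by
  rcases hS.normal_eq (inferInstance : (commutator G).Normal) with h | h
  · obtain ⟨a, b, hab⟩ := hS.exists_ne_comm
    have : ⁅a, b⁆ ∈ commutator G :=
      commutator_mem_commutator (mem_top a) (mem_top b)
    rw [h, mem_bot, commutatorElement_eq_one_iff_mul_comm] at this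
    exact absurd this hab
  · exact h

theorem sylow_le_commutator {q : ℕ} [Fact q.Prime] (hqp : q ≠ p) (Q : Sylow q G) :
    (Q : Subgroup G) ≤ ⁅(Q : Subgroup G), normalizer ((Q : Subgroup G) : Set G)⁆ := by
  rw [(Transfer.abelian_sylow_normalizer Q (hS.sylow_comm hqp Q.2)).1, hS.commutator_eq_top,
    top_inf_eq]

theorem exists_not_centralizing {q : ℕ} [hq : Fact q.Prime] (hd : q ∣ Nat.card G) (Q : Sylow q G) :
    ∃ g ∈ normalizer ((Q : Subgroup G) : Set G), g ∉ centralizer ((Q : Subgroup G) : Set G) := by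
  by_contra h
  push Not at h
  have := hS.simple
  exact Transfer.not_hasNormalPComplement_of_isSimpleGroup hS.exists_ne_comm hd
    (Transfer.hasNormalPComplement_of_normalizer_le_centralizer Q h)

/-- A `q`-subgroup normalized but not centralized inside a proper subgroup is moved by a
`p`-element. -/
theorem exists_pElement {H R : Subgroup G} (hH : H ≠ ⊤) {q : ℕ} [Fact q.Prime] (hqp : q ≠ p)
    (hR : IsPGroup q R) (hRH : R ≤ H) {g : G} (hgH : g ∈ H) (hg : g ∈ normalizer (R : Set G))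
    (hgc : g ∉ centralizer (R : Set G)) :
    ∃ u ∈ H ⊓ normalizer (R : Set G), ∃ k : ℕ, u ^ p ^ k = 1 ∧ ∃ x ∈ R, u * x ≠ x * u := by
  set N := H ⊓ normalizer (R : Set G) with hN
  have hNs : Group.IsSolvable N := hS.solv N fun h => hH (top_le_iff.1 (h ▸ inf_le_left))
  obtain ⟨L, hLN, hRL, hLc, k, hk⟩ :=
    exists_hall_ge (p := p) hNs (le_inf hRH le_normalizer) (hS.coprime_of_pGroup hqp hR)
  obtain ⟨P⟩ : Nonempty (Sylow p N) := inferInstance
  set C := N ⊓ centralizer (R : Set G) with hC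
  by_contra hcon
  push Not at hcon
  have hPC : (P : Subgroup N).map N.subtype ≤ C := by
    rintro _ ⟨u, hu, rfl⟩
    refine ⟨u.2, mem_centralizer_iff.2 fun x hx => ?_⟩
    obtain ⟨i, hi⟩ := P.2 ⟨u, hu⟩
    exact (hcon u u.2 i (by simpa using congrArg (fun z : (P : Subgroup N) => ((z : N) : G)) hi)
      x hx).symm
  have hLC : L ≤ C := le_inf hLN fun l hl => mem_centralizer_iff.2 fun x hx =>
    hS.comm_of_coprime hLc (hRL hx) hl
  have h1 : Nat.card L ∣ Nat.card C := card_dvd_of_le hLC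
  have h2 : p ^ k ∣ Nat.card C := by
    refine dvd_trans ?_ (card_dvd_of_le hPC)
    rw [card_map_of_injective N.subtype_injective]
    exact P.pow_dvd_card_of_pow_dvd_card (hk ▸ dvd_mul_left _ _)
  have h3 : Nat.card N ∣ Nat.card C := by
    rw [hk]; exact (Nat.Coprime.pow_right k hLc).mul_dvd_of_dvd_of_dvd h1 h2
  have hCN : C = N := eq_of_le_of_card_ge inf_le_left (Nat.le_of_dvd Nat.card_pos h3)
  have : g ∈ C := hCN ▸ (show g ∈ N from ⟨hgH, hg⟩)
  exact hgc this.2

theorem pow_three_le {H R : Subgroup G} (hH : H ≠ ⊤) {q : ℕ} [hq : Fact q.Prime] (hqp : q ≠ p)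
    (hd : q ∣ Nat.card G) (hR : IsPGroup q R) (hRH : R ≤ H) {g : G} (hgH : g ∈ H)
    (hg : g ∈ normalizer (R : Set G)) (hgc : g ∉ centralizer (R : Set G)) :
    q ^ 3 ≤ Nat.card (omega q R) := by
  obtain ⟨u, hu, k, hk, hne⟩ := hS.exists_pElement hH hqp hR hRH hgH hg hgc
  exact pow_three_le_card_omega (hS.succ_lt hd hqp) (hS.sylow_comm hqp hR) hR hu.2 hk hne

theorem sylow_ne_bot {q : ℕ} [Fact q.Prime] (hd : q ∣ Nat.card G) (Q : Sylow q G) :
    (Q : Subgroup G) ≠ ⊥ := Q.ne_bot_of_dvd_card hd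

theorem normalizer_sylow_ne_top {q : ℕ} [Fact q.Prime] (hd : q ∣ Nat.card G) (Q : Sylow q G) :
    normalizer ((Q : Subgroup G) : Set G) ≠ ⊤ :=
  hS.normalizer_ne_top (hS.sylow_ne_bot hd Q) (hS.ne_top_of_pGroup Q.2)

theorem sylow_three {q : ℕ} [hq : Fact q.Prime] (hqp : q ≠ p) (hd : q ∣ Nat.card G)
    (Q : Sylow q G) : q ^ 3 ≤ Nat.card (omega q (Q : Subgroup G)) := by
  obtain ⟨g, hg, hgc⟩ := hS.exists_not_centralizing hd Q
  exact hS.pow_three_le (hS.normalizer_sylow_ne_top hd Q) hqp hd Q.2 le_normalizer hg hg hgc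

/-- A proper subgroup is `O_{q'}` times the normalizer of its abelian Sylow subgroup. -/
theorem exists_factor {H : Subgroup G} (hH : H ≠ ⊤) {q : ℕ} [Fact q.Prime] (hqp : q ≠ p)
    (R : Sylow q H) {g : G} (hg : g ∈ H) :
    ∃ o ∈ pp q H, ∃ n ∈ H, n ∈ normalizer (((R : Subgroup H).map H.subtype : Subgroup G) : Set G) ∧
      g = o * n := by
  have := hS.solv H hH
  have hRc : IsMulCommutative (R : Subgroup H) := by
    have h := hS.sylow_comm hqp (R.2.map H.subtype)
    exact ⟨⟨fun a b => Subtype.ext (Subtype.ext (congrArg (fun z : _root_.Subtype _ => (z : G))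
      (h.is_comm.comm ⟨_, mem_map_of_mem H.subtype a.2⟩ ⟨_, mem_map_of_mem H.subtype b.2⟩)))⟩⟩
  obtain ⟨d, hd, n, hn, he⟩ := FusionMod.exists_mul_of_top
    (pPrimeCore_sup_normalizer_sylow R hRc) (⟨g, hg⟩ : H)
  exact ⟨d, mem_map_of_mem _ hd, n, n.2, le_normalizer_map H.subtype (mem_map_of_mem _ hn),
    congrArg Subtype.val he⟩

/-- A proper subgroup is `O_{p'}` times the normalizer of `Z(J)` of its Sylow `p`-subgroup. -/
theorem exists_factor_zj {H : Subgroup G} (hH : H ≠ ⊤) (R : Sylow p H) {g : G} (hg : g ∈ H) :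
    ∃ o ∈ pp p H, ∃ n ∈ H,
      n ∈ normalizer (ZJ.zj 0 ((R : Subgroup H).map H.subtype) : Set G) ∧ g = o * n := by
  have := hS.solv H hH
  obtain ⟨d, hd, n, hn, he⟩ := FusionMod.exists_mul_of_top
    (pPrimeCore_sup_normalizer_zj hS.five R) (⟨g, hg⟩ : H)
  refine ⟨d, mem_map_of_mem _ hd, n, n.2, ?_, congrArg Subtype.val he⟩
  rw [ZJ.zj_map H.subtype H.subtype_injective.injOn]
  exact le_normalizer_map H.subtype (mem_map_of_mem _ hn)

end Setting

end Cfsg.Agent.Lib.PrimeAbelian
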