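import Mathlib
import Cfsg.Agent.Lib.PrimeAbelian.Setting
import Cfsg.Agent.Lib.Coprime.Generation

/-!
Subgroups containing the normalizer of a Sylow `q`-subgroup and the centralizers of their
elements of order `q`; any proper subgroup meeting one in a noncyclic `q`-group lies in it.
-/

set_option autoImplicit false

namespace Cfsg.Agent.Lib.PrimeAbelian

open Subgroup
open scoped Pointwise

variable {G : Type*} [Group G] {p q : ℕ} [hp : Fact p.Prime] [hq : Fact q.Prime]

/-- `M` contains `N(Q)` for a Sylow `q`-subgroup `Q` and `C(x)` for its elements `x` of order `q`. -/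
structure Seed (p q : ℕ) (M : Subgroup G) : Prop where
  ne_top : M ≠ ⊤
  ne_p : q ≠ p
  dvd : q ∣ Nat.card G
  exists_sylow : ∃ Q : Sylow q G, (Q : Subgroup G) ≤ M
  centralizer_le : ∀ x ∈ M, x ^ q = 1 → x ≠ 1 → centralizer ({x} : Set G) ≤ M
  normalizer_le : ∀ Q : Sylow q G, (Q : Subgroup G) ≤ M → normalizer ((Q : Subgroup G) : Set G) ≤ M

theorem conj_centralizer_mem {m x c : G} (hc : c ∈ centralizer ({x} : Set G)) :
    m * c * m⁻¹ ∈ centralizer ({m * x * m⁻¹} : Set G) := by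
  rw [mem_centralizer_singleton_iff] at hc ⊢
  calc m * c * m⁻¹ * (m * x * m⁻¹) = m * (c * x) * m⁻¹ := by group
    _ = m * (x * c) * m⁻¹ := by rw [hc]
    _ = m * x * m⁻¹ * (m * c * m⁻¹) := by group

theorem mem_of_conj_mem {M : Subgroup G} {m g : G} (hm : m ∈ M) (h : m * g * m⁻¹ ∈ M) : g ∈ M := by
  have := mul_mem (mul_mem (inv_mem hm) h) hm
  simpa [mul_assoc] using this

theorem le_centralizer_of_mem {R : Subgroup G} (hR : IsMulCommutative R) {x : G} (hx : x ∈ R) :
    R ≤ centralizer ({x} : Set G) := fun r hr =>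
  mem_centralizer_singleton_iff.2 (congrArg Subtype.val (hR.is_comm.comm ⟨r, hr⟩ ⟨x, hx⟩))

omit hq in
theorem isPGroup_zpowers_of_pow {x : G} (h : x ^ q = 1) : IsPGroup q (zpowers x) :=
  IsPGroup.of_card_dvd_pow (n := 1) (by
    rw [Nat.card_zpowers, pow_one]; exact orderOf_dvd_of_pow_eq_one h)

variable [Finite G]

omit hp in
theorem seed_of_sylow {M : Subgroup G} (hM : M ≠ ⊤) (hqp : q ≠ p) (hd : q ∣ Nat.card G)
    (Q : Sylow q G) (hN : normalizer ((Q : Subgroup G) : Set G) ≤ M)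
    (hC : ∀ a ∈ (Q : Subgroup G), a ^ q = 1 → a ≠ 1 → centralizer ({a} : Set G) ≤ M) :
    Seed p q M := by
  have hQM : (Q : Subgroup G) ≤ M := le_normalizer.trans hN
  refine ⟨hM, hqp, hd, ⟨Q, hQM⟩, fun x hx hxq hx1 c hc => ?_, fun Q' hQ' g hg => ?_⟩
  · obtain ⟨m, hm, h⟩ := exists_conj_mem Q hQM (zpowers_le.2 hx) (isPGroup_zpowers_of_pow hxq)
    refine mem_of_conj_mem hm (hC _ (h x (mem_zpowers x)) ?_ ?_ (conj_centralizer_mem hc))
    · rw [conj_pow, hxq, mul_one, mul_inv_cancel]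
    · exact fun he => hx1 (conj_eq_one_iff.1 he)
  · obtain ⟨m, hm, h⟩ := exists_conj_mem Q hQM hQ' Q'.2
    have hmap : (Q' : Subgroup G).map (MulAut.conj m).toMonoidHom = Q := by
      refine eq_of_le_of_card_ge ?_ ?_
      · rintro _ ⟨x, hx, rfl⟩
        exact h x hx
      · rw [card_map_of_injective (MulAut.conj m).injective, Q.card_eq_multiplicity,
          Q'.card_eq_multiplicity]
    refine mem_of_conj_mem hm (hN ?_)
    rw [← hmap]
    exact le_normalizer_map _ (mem_map_of_mem (MulAut.conj m).toMonoidHom hg)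

namespace Seed

variable {M : Subgroup G} (hM : Seed p q M) (hS : Setting G p)

include hM hS

theorem centralizer_le_of_mem_sylow {Q : Sylow q G} (hQ : (Q : Subgroup G) ≤ M) {a : G}
    (ha : a ∈ omega q (Q : Subgroup G)) (ha1 : a ≠ 1) : centralizer ({a} : Set G) ≤ M := by
  have h := (mem_omega (hS.sylow_comm hM.ne_p Q.2)).1 ha
  exact hM.centralizer_le a (hQ h.1) h.2 ha1

/-- A proper subgroup meeting `M` in a noncyclic elementary `q`-group lies in `M`. -/
theorem le_of_noncyclic {H A : Subgroup G} (hH : H ≠ ⊤) (hAH : A ≤ H) (hAM : A ≤ M)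
    (hA : IsPGroup q A) (hexp : ∀ a ∈ A, a ^ q = 1) (hnc : ¬ IsCyclic A) : H ≤ M := by
  have hAc : IsMulCommutative A := hS.sylow_comm hM.ne_p hA
  have hO : pp q H ≤ M := by
    refine Coprime.le_of_noncyclic hnc (hAH.trans (le_normalizer_pp H)) ?_ fun x hx hx1 =>
      inf_le_right.trans (hM.centralizer_le x (hAM hx) (hexp x hx) hx1)
    obtain ⟨n, hn⟩ := IsPGroup.iff_card.1 hA
    rw [hn]
    exact Nat.Coprime.pow_left n (pp_coprime H).symm
  obtain ⟨S, hS'⟩ := (hA.comap_subtype (K := H)).exists_le_sylow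
  set R := (S : Subgroup H).map H.subtype with hR
  have hRq : IsPGroup q R := S.2.map H.subtype
  have hAR : A ≤ R := fun x hx =>
    ⟨⟨x, hAH hx⟩, hS' (show (⟨x, hAH hx⟩ : H) ∈ A.comap H.subtype from hx), rfl⟩
  have hRc := hS.sylow_comm hM.ne_p hRq
  intro g hg
  obtain ⟨o, ho, n, -, hnR, rfl⟩ := hS.exists_factor hH hM.ne_p S hg
  refine mul_mem (hO ho) ?_
  obtain ⟨a, ha, ha1⟩ : ∃ a ∈ A, a ≠ 1 := by
    by_contra h
    push Not at h
    exact hnc (by rw [(eq_bot_iff_forall A).2 h]; infer_instance)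
  have hCa := hM.centralizer_le a (hAM ha) (hexp a ha) ha1
  have hRM : R ≤ M := (le_centralizer_of_mem hRc (hAR ha)).trans hCa
  obtain ⟨Q₀, hQ₀⟩ := hM.exists_sylow
  obtain ⟨Q, hRQ, hQM⟩ := exists_sylow_ge_le Q₀ hQ₀ hRM hRq
  set C := centralizer (omega q R : Set G) with hC
  have hCM : C ≤ M := by
    refine le_trans ?_ hCa
    exact Subgroup.centralizer_le (Set.singleton_subset_iff.2 ((mem_omega hRc).2 ⟨hAR ha, hexp a ha⟩))
  have hQc := hS.sylow_comm hM.ne_p Q.2
  have hQC : (Q : Subgroup G) ≤ C := fun x hx => mem_centralizer_iff.2 fun y hy =>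
    congrArg Subtype.val (hQc.is_comm.comm ⟨y, hRQ (omega_le q R hy)⟩ ⟨x, hx⟩)
  have hnω : ∀ y ∈ omega q R, n⁻¹ * y * n ∈ omega q R := fun y hy => by
    have h := (mem_omega hRc).1 hy
    refine (mem_omega hRc).2 ⟨(mem_normalizer_iff''.1 hnR y).1 h.1, ?_⟩
    simpa [h.2] using conj_pow (i := q) (a := n⁻¹) (b := y)
  have hQ'C : (Q : Subgroup G).map (MulAut.conj n).toMonoidHom ≤ C := by
    rintro _ ⟨x, hx, rfl⟩
    refine mem_centralizer_iff.2 fun y hy => ?_
    have h1 := mem_centralizer_iff.1 (hQC hx) _ (hnω y hy)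
    calc y * (n * x * n⁻¹) = n * ((n⁻¹ * y * n) * x) * n⁻¹ := by group
      _ = n * (x * (n⁻¹ * y * n)) * n⁻¹ := by rw [h1]
      _ = n * x * n⁻¹ * y := by group
  obtain ⟨d, hd, hd'⟩ := exists_conj_mem Q hQC hQ'C (Q.2.map _)
  have hdn : d * n ∈ normalizer ((Q : Subgroup G) : Set G) :=
    PSolvable.mem_normalizer_of_conj_mem fun x hx => by
      have := hd' _ ⟨x, hx, rfl⟩
      simpa [mul_assoc] using this
  have h2 := mul_mem (inv_mem (hCM hd)) (hM.normalizer_le Q hQM hdn)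
  simpa [mul_assoc] using h2

/-- A proper subgroup containing `Ω₁` of a Sylow `q`-subgroup of `M` lies in `M`. -/
theorem le_of_omega {H : Subgroup G} (hH : H ≠ ⊤) {Q : Sylow q G} (hQM : (Q : Subgroup G) ≤ M)
    (hQH : omega q (Q : Subgroup G) ≤ H) : H ≤ M := by
  have hQc := hS.sylow_comm hM.ne_p Q.2
  refine hM.le_of_noncyclic hS hH hQH ((omega_le q _).trans hQM) (Q.2.to_le (omega_le q _))
    (fun a ha => ((mem_omega hQc).1 ha).2) (not_isCyclic_of_exp hq.out.two_le
      (fun a ha => ((mem_omega hQc).1 ha).2) ?_)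
  exact (Nat.pow_le_pow_right hq.out.pos (by norm_num)).trans (hS.sylow_three hM.ne_p hM.dvd Q)

omit [Finite G] hp hq in
theorem solvable : Group.IsSolvable M := hS.solv M hM.ne_top

end Seed

end Cfsg.Agent.Lib.PrimeAbelian
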