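import Mathlib
import Cfsg.Agent.Lib.PrimeAbelian.Seed
import Cfsg.Agent.Lib.Transfer.Fusion

/-!
Fusion in a Sylow `p`-subgroup is controlled by `N(Z(J(P)))`, which lies in no seed; consequently a
seed for `q` has its Sylow `q`-subgroups in `O_{p'}`.
-/

set_option autoImplicit false

namespace Cfsg.Agent.Lib.PrimeAbelian

open Subgroup
open scoped commutatorElement

universe u

variable {G : Type u} [Group G] [Finite G] {p q : ℕ} [hp : Fact p.Prime] [hq : Fact q.Prime]

/-- `N(Z(J(P)))`. -/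
abbrev zjN (P : Subgroup G) : Subgroup G := normalizer (ZJ.zj 0 P : Set G)

theorem normalizer_le_zjN (P : Subgroup G) : normalizer (P : Set G) ≤ zjN P := by
  intro n hn
  have h : P.map (MulAut.conj n).toMonoidHom = P := by
    refine le_antisymm ?_ fun x hx => ⟨n⁻¹ * x * n, (mem_normalizer_iff''.1 hn x).1 hx, ?_⟩
    · rintro _ ⟨x, hx, rfl⟩
      exact (mem_normalizer_iff.1 hn x).1 hx
    · simp only [MulEquiv.coe_toMonoidHom, MulAut.conj_apply]
      group
  have h2 := ZJ.zj_map (m := 0) (MulAut.conj n).toMonoidHom (U := P)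
    (MulAut.conj n).injective.injOn
  rw [h] at h2
  refine PSolvable.mem_normalizer_of_conj_mem fun x hx => ?_
  rw [h2]
  exact ⟨x, hx, rfl⟩

namespace Setting

variable (hS : Setting G p)

include hS

theorem zjN_ne_top {P : Subgroup G} (hP : IsPGroup p P) (h1 : P ≠ ⊥) : zjN P ≠ ⊤ :=
  hS.normalizer_ne_top (ZJ.zj_ne_bot hP h1 (Or.inl rfl))
    (hS.ne_top_of_pGroup (hP.to_le (ZJ.zj_le 0 P)))

theorem sylow_p_ne_bot (P : Sylow p G) : (P : Subgroup G) ≠ ⊥ := P.ne_bot_of_dvd_card hS.p_dvd_card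

/-- `N(Z(J(P)))` controls strong fusion in `P`. -/
theorem control (P : Sylow p G) {X : Set G} (hX : X ⊆ (P : Subgroup G)) (g : G)
    (hg : ∀ x ∈ X, g * x * g⁻¹ ∈ (P : Subgroup G)) :
    ∃ n ∈ zjN (P : Subgroup G), ∀ x ∈ X, n * x * n⁻¹ = g * x * g⁻¹ := by
  have h5 := hS.five
  have hfree : ∀ U : Subgroup G,
      (P : Subgroup G) ⊓ centralizer ((P : Subgroup G) : Set G) ≤ U →
      U ≤ P → Functor.NoSLTwo p (normalizer (U : Set G)) := by
    intro U hZU hUP K φ hK hφ
    have hU1 : U ≠ ⊥ := by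
      intro hU
      have hnt : Nontrivial (P : Subgroup G) := (nontrivial_iff_ne_bot _).2 (hS.sylow_p_ne_bot P)
      have : Nontrivial (center (P : Subgroup G)) := P.2.center_nontrivial
      obtain ⟨z, hz1⟩ := exists_ne (1 : center (P : Subgroup G))
      refine hz1 (Subtype.ext (Subtype.ext ?_))
      have : ((z : (P : Subgroup G)) : G) ∈ U := hZU ⟨(z : (P : Subgroup G)).2,
        mem_centralizer_iff.2 fun y hy =>
          congrArg Subtype.val (mem_center_iff.1 z.2 ⟨y, hy⟩)⟩
      rw [hU, mem_bot] at this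
      exact this
    have hN := hS.normalizer_ne_top hU1 (hS.ne_top_of_pGroup (P.2.to_le hUP))
    have := hS.solv K fun h => hN (top_le_iff.1 (h ▸ hK))
    exact not_isSolvable_SL h5 (Group.isSolvable_of_surjective (f := φ) hφ)
  have hB : closure X ≤ (P : Subgroup G) := (closure_le _).2 hX
  have hgB : Functor.cj g (closure X) ≤ (P : Subgroup G) := by
    rw [Functor.cj, MonoidHom.map_closure, closure_le]
    rintro _ ⟨x, hx, rfl⟩
    exact hg x hx
  obtain ⟨n, hn, h⟩ := Functor.exists_mem_normalizer_zj (by omega) P hfree hB hgB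
  rw [← ZJ.zj_zero_eq] at hn
  exact ⟨n, hn, fun x hx => h x (subset_closure hx)⟩

theorem sylow_le_commutator_zjN (P : Sylow p G) :
    (P : Subgroup G) ≤ ⁅zjN (P : Subgroup G), zjN (P : Subgroup G)⁆ := by
  have h := Transfer.commutator_inf_eq_of_control P
    (le_normalizer.trans (normalizer_le_zjN _)) fun x hx g hg => by
      obtain ⟨n, hn, h⟩ := hS.control P (X := {x}) (Set.singleton_subset_iff.2 hx) g
        (fun y hy => by rw [Set.mem_singleton_iff.1 hy]; exact hg)
      exact ⟨n, hn, h x rfl⟩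
  rw [hS.commutator_eq_top, top_inf_eq] at h
  exact h.le.trans inf_le_left

end Setting

namespace Seed

variable {M : Subgroup G} (hM : Seed p q M) (hS : Setting G p)

include hM hS

theorem sylow_le_commutator {Q : Sylow q G} (hQ : (Q : Subgroup G) ≤ M) :
    (Q : Subgroup G) ≤ ⁅M, M⁆ :=
  (hS.sylow_le_commutator hM.ne_p Q).trans (commutator_mono hQ (hM.normalizer_le Q hQ))

/-- No seed contains `N(Z(J(P)))`. -/
theorem not_zjN_le (P : Sylow p G) : ¬ zjN (P : Subgroup G) ≤ M := by
  intro hK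
  have hMs := hM.solvable hS
  obtain ⟨Q, hQ⟩ := hM.exists_sylow
  obtain ⟨g, hg, hgc⟩ := hS.exists_not_centralizing hM.dvd Q
  obtain ⟨u, hu, k, huk, x, hxQ, hne⟩ :=
    hS.exists_pElement (hS.normalizer_sylow_ne_top hM.dvd Q) hM.ne_p Q.2 le_normalizer hg hg hgc
  obtain ⟨L, hLM, hQL, hLc, j, hj⟩ :=
    exists_hall_ge (p := p) hMs hQ (hS.coprime_of_pGroup hM.ne_p Q.2)
  set f := QuotientGroup.mk' (Cfsg.pPrimeCore q M) with hf
  set Qb := ((Q : Subgroup G).subgroupOf M).map f with hQb
  have hQbn : Qb.Normal := by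
    constructor
    rintro _ ⟨a, ha, rfl⟩ b
    obtain ⟨m, rfl⟩ := QuotientGroup.mk'_surjective (Cfsg.pPrimeCore q M) b
    obtain ⟨d, hd, n, hn, hm⟩ := FusionMod.exists_mul_of_top
      (pPrimeCore_sup_normalizer_sylow (Q.subtype hQ) (by
        have h := hS.sylow_comm hM.ne_p Q.2
        exact ⟨⟨fun a b => Subtype.ext (Subtype.ext (congrArg (fun z : _root_.Subtype _ => (z : G))
          (h.is_comm.comm ⟨_, a.2⟩ ⟨_, b.2⟩)))⟩⟩)) m
    have hd1 : f d = 1 := (QuotientGroup.eq_one_iff d).2 hd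
    refine ⟨n * a * n⁻¹, (mem_normalizer_iff.1 hn a).1 ha, ?_⟩
    change f (n * a * n⁻¹) = f m * f a * (f m)⁻¹
    rw [hm]
    simp only [map_mul, map_inv, hd1, one_mul]
  set W := (centralizer (Qb : Set (M ⧸ Cfsg.pPrimeCore q M))).comap f with hW
  have hLW : L.subgroupOf M ≤ W := by
    intro l hl
    refine mem_comap.2 (mem_centralizer_iff.2 ?_)
    rintro _ ⟨a, ha, rfl⟩
    rw [← map_mul, ← map_mul]
    exact congrArg f (Subtype.ext (hS.comm_of_coprime hLc (hQL ha) hl))
  have huM : u ∈ M := hM.normalizer_le Q hQ hu.1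
  have hWt : W ≠ ⊤ := by
    intro h
    refine hne ?_
    have h1 : (⟨u, huM⟩ : M) ∈ W := h ▸ mem_top _
    have h2 := mem_centralizer_iff.1 (mem_comap.1 h1) (f ⟨x, hQ hxQ⟩)
      (mem_map_of_mem f (show (⟨x, hQ hxQ⟩ : M) ∈ (Q : Subgroup G).subgroupOf M from hxQ))
    rw [← map_mul, ← map_mul] at h2
    have h3 := (QuotientGroup.eq_iff_div_mem).1 h2
    have h4 : x * u * x⁻¹ * u⁻¹ ∈ (Q : Subgroup G) := by
      have := mul_mem hxQ ((mem_normalizer_iff.1 hu.1 x⁻¹).1 (inv_mem hxQ))
      simpa [mul_assoc] using this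
    have h5 : ((⟨x, hQ hxQ⟩ * ⟨u, huM⟩ : M) / (⟨u, huM⟩ * ⟨x, hQ hxQ⟩)) = 1 := by
      refine FusionMod.eq_one_of_mem_pPrimeCore (p := q) (P := (Q : Subgroup G).subgroupOf M)
        Q.2.comap_subtype ?_ h3
      show _ ∈ (Q : Subgroup G)
      simpa [div_eq_mul_inv, mul_assoc] using h4
    exact congrArg Subtype.val (div_eq_one.1 h5).symm
  have hWn : W.Normal := inferInstance
  have hWi : W.index ∣ p ^ j := by
    have h1 : (L.subgroupOf M).index = p ^ j := by
      have := (L.subgroupOf M).card_mul_index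
      rw [Nat.card_congr (subgroupOfEquivOfLe hLM).toEquiv, hj] at this
      exact Nat.eq_of_mul_eq_mul_left Nat.card_pos this
    exact h1 ▸ index_dvd_of_le hLW
  obtain ⟨i, hi, hiW⟩ := (Nat.dvd_prime_pow hp.out).1 hWi
  set π := QuotientGroup.mk' W with hπ
  have hπs : Function.Surjective π := QuotientGroup.mk'_surjective W
  have hWq : IsPGroup p (M ⧸ W) := IsPGroup.of_card (n := i) (by rw [← index_eq_card, hiW])
  have hPM : (P : Subgroup G) ≤ M := (le_normalizer.trans (normalizer_le_zjN _)).trans hK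
  have hPc : ((P : Subgroup G).subgroupOf M) ≤ commutator M := by
    intro x hx
    have h1 : (x : G) ∈ ⁅M, M⁆ :=
      commutator_mono hK hK ((hS.sylow_le_commutator_zjN P) hx)
    rw [← map_subtype_commutator] at h1
    obtain ⟨y, hy, hyx⟩ := h1
    rwa [← Subtype.ext hyx]
  have htop : (commutator M).map π = ⊤ := by
    refine top_le_iff.1 (le_trans ?_ (map_mono hPc))
    have h2 : ((P.subtype hPM).mapSurjective hπs : Subgroup (M ⧸ W)) = ⊤ := by
      refine eq_top_of_card_eq _ ?_
      obtain ⟨n, hn⟩ := IsPGroup.iff_card.1 hWq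
      rw [Sylow.card_eq_multiplicity, hn, hp.out.factorization_pow, Finsupp.single_eq_same]
    exact h2.ge
  have hnt : Nontrivial (M ⧸ W) := Finite.one_lt_card_iff_nontrivial.1 (by
    rw [← index_eq_card]
    exact lt_of_le_of_ne (Nat.pos_of_ne_zero index_ne_zero_of_finite)
      (fun h => hWt (index_eq_one.1 h.symm)))
  have hlt := Group.IsSolvable.commutator_lt_top_of_nontrivial (M ⧸ W)
  refine hlt.ne (top_le_iff.1 (htop ▸ ?_))
  rw [_root_.commutator_def, map_commutator, _root_.commutator_def]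
  exact commutator_mono le_top le_top

theorem p_dvd : p ∣ Nat.card M := by
  by_contra h
  obtain ⟨Q, hQ⟩ := hM.exists_sylow
  obtain ⟨g, hg, hgc⟩ := hS.exists_not_centralizing hM.dvd Q
  refine hgc (mem_centralizer_iff.2 fun x hx => ?_)
  exact hS.comm_of_coprime (hp.out.coprime_iff_not_dvd.2 h).symm (hQ hx)
    (hM.normalizer_le Q hQ hg)

/-- **Dichotomy**: Sylow `q`-subgroups of a seed lie in `O_{p'}`. -/
theorem sylow_le_pp {Q : Sylow q G} (hQ : (Q : Subgroup G) ≤ M) :
    (Q : Subgroup G) ≤ pp p M := by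
  by_contra hQY
  have hMs := hM.solvable hS
  obtain ⟨S⟩ : Nonempty (Sylow p M) := inferInstance
  set PM := (S : Subgroup M).map M.subtype with hPMdef
  have hPM : IsPGroup p PM := S.2.map M.subtype
  have hPM1 : PM ≠ ⊥ := by
    rw [hPMdef, ne_eq, map_eq_bot_iff_of_injective _ M.subtype_injective]
    exact S.ne_bot_of_dvd_card (hM.p_dvd hS)
  have hKne := hS.zjN_ne_top hPM hPM1
  set f := QuotientGroup.mk' (Cfsg.pPrimeCore p M) with hf
  set K0 := (zjN PM).comap M.subtype with hK0
  set φ := f.comp K0.subtype with hφ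
  have hφs : Function.Surjective φ := by
    intro b
    obtain ⟨m, rfl⟩ := QuotientGroup.mk'_surjective (Cfsg.pPrimeCore p M) b
    obtain ⟨o, ho, n, hn, hnN, hm⟩ := hS.exists_factor_zj hM.ne_top S m.2
    obtain ⟨o', ho', rfl⟩ := ho
    refine ⟨⟨⟨n, hn⟩, hnN⟩, ?_⟩
    change f ⟨n, hn⟩ = f m
    have hm' : m = o' * ⟨n, hn⟩ := Subtype.ext hm
    rw [hm', map_mul, show f o' = 1 from (QuotientGroup.eq_one_iff o').2 ho', one_mul]
  obtain ⟨R⟩ : Nonempty (Sylow q K0) := inferInstance
  by_cases hR : normalizer ((R : Subgroup K0) : Set K0) ≤ centralizer ((R : Subgroup K0) : Set K0)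
  · refine hQY fun x hx => ?_
    set τ := MonoidHom.transferSylow R hR
    have hcomp := MonoidHom.ker_transferSylow_isComplement' R hR
    set Wb := τ.ker.map φ with hWb
    have hcom : commutator (M ⧸ Cfsg.pPrimeCore p M) ≤ Wb := by
      have h1 : commutator K0 ≤ τ.ker := by
        rw [_root_.commutator_def, commutator_le]
        intro a _ b _
        rw [MonoidHom.mem_ker, map_commutatorElement, commutatorElement_eq_one_iff_mul_comm]
        have hc : IsMulCommutative ((R : Subgroup K0).map (M.subtype.comp K0.subtype)) :=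
          hS.sylow_comm hM.ne_p (R.2.map _)
        refine Subtype.ext (Subtype.ext (Subtype.ext ?_))
        exact congrArg (fun z : _root_.Subtype _ => (z : G))
          (hc.is_comm.comm ⟨_, mem_map_of_mem _ (τ a).2⟩ ⟨_, mem_map_of_mem _ (τ b).2⟩)
      calc commutator (M ⧸ Cfsg.pPrimeCore p M) = (commutator K0).map φ := by
            rw [_root_.commutator_def, _root_.commutator_def, map_commutator, map_top_of_surjective φ hφs]
        _ ≤ Wb := map_mono h1
    have hxM := hM.sylow_le_commutator hS hQ hx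
    rw [← map_subtype_commutator] at hxM
    obtain ⟨y, hy, hyx⟩ := hxM
    have h2 : f y ∈ Wb := hcom (by
      have := mem_map_of_mem f hy
      rw [_root_.commutator_def, map_commutator] at this
      rw [_root_.commutator_def]
      exact commutator_mono le_top le_top this)
    have h3 : (Nat.card Wb).Coprime q := by
      refine Nat.Coprime.coprime_dvd_left (card_map_dvd τ.ker φ) ?_
      have h4 : τ.ker.index = Nat.card (R : Subgroup K0) := hcomp.symm.index_eq_card
      rw [← hcomp.index_eq_card]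
      exact (hq.out.coprime_iff_not_dvd.2 R.not_dvd_index).symm
    have h5 : y ∈ (Q : Subgroup G).subgroupOf M := by
      have : (y : G) = x := hyx
      rw [mem_subgroupOf, this]; exact hx
    have h6 : f y = 1 := by
      have hfy : IsPGroup q (zpowers (f y)) :=
        (Q.2.comap_subtype.map f).to_le (zpowers_le.2 (mem_map_of_mem f h5))
      have h7 := PSolvable.inf_eq_bot_of_isPGroup_of_coprime hfy h3
      have h8 : f y ∈ zpowers (f y) ⊓ Wb := ⟨mem_zpowers _, h2⟩
      rwa [h7, mem_bot] at h8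
    exact ⟨y, (QuotientGroup.eq_one_iff y).1 h6, hyx⟩
  · obtain ⟨g, hg, hgc⟩ := SetLike.not_le_iff_exists.1 hR
    let ι := M.subtype.comp K0.subtype
    have hιi : Function.Injective ι := M.subtype_injective.comp K0.subtype_injective
    set R' := (R : Subgroup K0).map ι with hR'
    have hR'M : R' ≤ M := by
      rintro _ ⟨a, -, rfl⟩
      exact (a : M).2
    have hR'Z : R' ≤ zjN PM := by
      rintro _ ⟨a, -, rfl⟩
      exact a.2
    have hR'q : IsPGroup q R' := R.2.map ι
    have hgn : ι g ∈ normalizer (R' : Set G) := le_normalizer_map ι (mem_map_of_mem ι hg)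
    have hgc' : ι g ∉ centralizer (R' : Set G) := fun h => hgc (mem_centralizer_iff.2 fun a ha =>
      hιi (by simpa using mem_centralizer_iff.1 h (ι a) (mem_map_of_mem ι ha)))
    have h3 := hS.pow_three_le hM.ne_top hM.ne_p hM.dvd hR'q hR'M (g : M).2 hgn hgc'
    have hR'c := hS.sylow_comm hM.ne_p hR'q
    have hKM : zjN PM ≤ M := by
      refine hM.le_of_noncyclic hS hKne ((omega_le q _).trans hR'Z) ((omega_le q _).trans hR'M)
        (hR'q.to_le (omega_le q _)) (fun a ha => ((mem_omega hR'c).1 ha).2)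
        (not_isCyclic_of_exp hq.out.two_le (fun a ha => ((mem_omega hR'c).1 ha).2) ?_)
      exact (Nat.pow_le_pow_right hq.out.pos (by norm_num)).trans h3
    obtain ⟨P, hP⟩ := hPM.exists_le_sylow
    have hPeq : PM = (P : Subgroup G) := by
      by_contra hne
      have hlt := Transfer.lt_inf_normalizer P.2 (lt_of_le_of_ne hP hne)
      have h4 : (P : Subgroup G) ⊓ normalizer (PM : Set G) ≤ M :=
        inf_le_right.trans ((normalizer_le_zjN PM).trans hKM)
      have h5 := S.3 ((P.2.to_le inf_le_left).comap_subtype (K := M)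
        (H := (P : Subgroup G) ⊓ normalizer (PM : Set G))) (by
        intro a ha
        exact hlt.le (mem_map_of_mem M.subtype ha))
      refine hlt.not_ge fun a ha => ?_
      exact ⟨⟨a, h4 ha⟩, h5 ▸ (show (⟨a, h4 ha⟩ : M) ∈ _ from ha), rfl⟩
    exact hM.not_zjN_le hS P (hPeq ▸ hKM)

end Seed

end Cfsg.Agent.Lib.PrimeAbelian
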