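import Mathlib
import Cfsg.Agent.Lib.PrimeAbelian.Dichotomy
import Cfsg.Agent.Lib.Signalizer.Solvable
import Cfsg.Agent.S1279

/-!
Every seed is `O_{p'}(M) P_M` with `O_{p'}(M)` an abelian TI-subgroup, and every prime other than
`p` has a seed.
-/

set_option autoImplicit false

namespace Cfsg.Agent.Lib.PrimeAbelian

open Subgroup

universe u

variable {G : Type u} [Group G] [Finite G] {p q : ℕ} [hp : Fact p.Prime] [hq : Fact q.Prime]

omit hp in
theorem map_pp_le (φ : G →* G) (hφ : Function.Injective φ) (H : Subgroup G) :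
    (pp p H).map φ ≤ pp p (H.map φ) := by
  refine le_pp (map_mono (pp_le H)) ((map_mono (le_normalizer_pp H)).trans (le_normalizer_map φ)) ?_
  rw [card_map_of_injective hφ]
  exact pp_coprime H

namespace Seed

variable {M : Subgroup G} (hM : Seed p q M) (hS : Setting G p)

include hM hS

theorem sylow_le_pp' (Q : Sylow q G) (hQ : (Q : Subgroup G) ≤ M) :
    (Q : Subgroup G) ≤ pp p M ∧ omega q (Q : Subgroup G) ≤ pp p M :=
  ⟨hM.sylow_le_pp hS hQ, (omega_le q _).trans (hM.sylow_le_pp hS hQ)⟩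

omit hq in
/-- Commuting elements inside `O_{p'}(M)`. -/
theorem pp_comm {x y : G} (hx : x ∈ pp p M) (hy : y ∈ pp p M) : x * y = y * x :=
  hS.comm_of_coprime (pp_coprime M) hx hy

/-- A prime `r ≠ p` dividing `|M|` has a seed `M` and its Sylow subgroup lies in `O_{p'}(M)`. -/
theorem seed_of_prime {r : ℕ} [hr : Fact r.Prime] (hrp : r ≠ p) (hd : r ∣ Nat.card M) :
    Seed p r M ∧ ∃ R : Sylow r G, (R : Subgroup G) ≤ pp p M := by
  obtain ⟨Q, hQ⟩ := hM.exists_sylow
  obtain ⟨L, hLM, hYL, hLc, k, hk⟩ :=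
    exists_hall_ge (p := p) (hM.solvable hS) (pp_le M) (pp_coprime M)
  have hQL : (Q : Subgroup G) ≤ L := (hM.sylow_le_pp hS hQ).trans hYL
  have hcopk : r.Coprime (p ^ k) :=
    Nat.Coprime.pow_right k ((Nat.coprime_primes hr.out hp.out).2 hrp)
  have hdL : r ∣ Nat.card L := hcopk.dvd_of_dvd_mul_right (hk ▸ hd)
  obtain ⟨S⟩ : Nonempty (Sylow r L) := inferInstance
  set RL := (S : Subgroup L).map L.subtype with hRL
  have hRLq : IsPGroup r RL := S.2.map L.subtype
  have hRLL : RL ≤ L := map_subtype_le _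
  obtain ⟨r0, hr0, hr01⟩ : ∃ r0 ∈ RL, r0 ≠ 1 := by
    by_contra h
    push Not at h
    have := S.ne_bot_of_dvd_card hdL
    exact this ((map_eq_bot_iff_of_injective _ L.subtype_injective).1
      ((eq_bot_iff_forall _).2 h))
  have hCb : ∀ b ∈ L, b ≠ 1 → centralizer ({b} : Set G) ≤ M := fun b hb hb1 =>
    hM.le_of_omega hS (hS.centralizer_ne_top hb1) hQ fun a ha =>
      mem_centralizer_singleton_iff.2 (hS.comm_of_coprime hLc (hQL (omega_le q _ ha)) hb)
  obtain ⟨R, hR⟩ := hRLq.exists_le_sylow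
  have hRM : (R : Subgroup G) ≤ M :=
    (le_centralizer_of_mem (hS.sylow_comm hrp R.2) (hR hr0)).trans (hCb r0 (hRLL hr0) hr01)
  have hdG : r ∣ Nat.card G := hd.trans (card_subgroup_dvd_card M)
  have hReq : RL = (R : Subgroup G) := by
    refine eq_of_le_of_card_ge hR (Nat.le_of_dvd Nat.card_pos ?_)
    obtain ⟨n, hn⟩ := IsPGroup.iff_card.1 R.2
    have h1 : r ^ n ∣ Nat.card L := by
      refine (Nat.Coprime.pow_left n hcopk).dvd_of_dvd_mul_right ?_
      rw [← hn, ← hk]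
      exact card_dvd_of_le hRM
    rw [hn, hRL, card_map_of_injective L.subtype_injective]
    exact S.pow_dvd_card_of_pow_dvd_card h1
  have hRL' : (R : Subgroup G) ≤ L := hReq ▸ hRLL
  have hseed : Seed p r M := by
    refine seed_of_sylow hM.ne_top hrp hdG R ?_ fun a ha _ ha1 => hCb a (hRL' ha) ha1
    refine hM.le_of_omega hS (hS.normalizer_sylow_ne_top hdG R) hQ fun a ha => ?_
    refine PSolvable.mem_normalizer_of_conj_mem fun x hx => ?_
    rwa [hS.comm_of_coprime hLc (hQL (omega_le q _ ha)) (hRL' hx), mul_inv_cancel_right]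
  exact ⟨hseed, R, hseed.sylow_le_pp hS hRM⟩

/-- `O_{p'}(M)` has `p`-power index in `M`. -/
theorem exists_card_eq : ∃ k : ℕ, Nat.card M = Nat.card (pp p M) * p ^ k := by
  obtain ⟨L, hLM, hYL, hLc, k, hk⟩ :=
    exists_hall_ge (p := p) (hM.solvable hS) (pp_le M) (pp_coprime M)
  refine ⟨k, ?_⟩
  suffices h : Nat.card L ∣ Nat.card (pp p M) by
    rw [Nat.dvd_antisymm (card_dvd_of_le hYL) h]; exact hk
  rw [Nat.dvd_iff_prime_pow_dvd_dvd]
  intro r e hr he
  rcases Nat.eq_zero_or_pos e with rfl | he0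
  · simp
  have : Fact r.Prime := ⟨hr⟩
  have hrL : r ∣ Nat.card L := (dvd_pow_self r he0.ne').trans he
  have hrp : r ≠ p := fun h =>
    hr.one_lt.ne' (Nat.eq_one_of_dvd_coprimes hLc hrL (h ▸ dvd_rfl))
  obtain ⟨-, R, hR⟩ := hM.seed_of_prime hS hrp (hrL.trans (card_dvd_of_le hLM))
  exact (R.pow_dvd_card_of_pow_dvd_card (he.trans (card_subgroup_dvd_card L))).trans
    (card_dvd_of_le hR)

/-- Every `p'`-element of `M` lies in `O_{p'}(M)`. -/
theorem mem_pp {x : G} (hx : x ∈ M) (hc : (orderOf x).Coprime p) : x ∈ pp p M := by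
  obtain ⟨k, hk⟩ := hM.exists_card_eq hS
  set N := Cfsg.pPrimeCore p M
  have hidx : Nat.card (M ⧸ N) = p ^ k := by
    have h1 := N.card_mul_index
    rw [hk, show Nat.card (pp p M) = Nat.card N from card_map_of_injective M.subtype_injective] at h1
    rw [← index_eq_card]
    exact Nat.eq_of_mul_eq_mul_left Nat.card_pos h1
  set z := QuotientGroup.mk' N ⟨x, hx⟩ with hz
  have h1 : orderOf z ∣ orderOf x := by
    rw [← orderOf_mk x hx]; exact orderOf_map_dvd _ _
  have h2 : orderOf z ∣ p ^ k := hidx ▸ orderOf_dvd_natCard z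
  have h3 : z = 1 := orderOf_eq_one_iff.1
    (Nat.eq_one_of_dvd_coprimes (Nat.Coprime.pow_right k hc) h1 h2)
  exact ⟨⟨x, hx⟩, (QuotientGroup.eq_one_iff _).1 h3, rfl⟩

theorem centralizer_le_of_mem_pp {y : G} (hy : y ∈ pp p M) (hy1 : y ≠ 1) :
    centralizer ({y} : Set G) ≤ M := by
  obtain ⟨Q, hQ⟩ := hM.exists_sylow
  exact hM.le_of_omega hS (hS.centralizer_ne_top hy1) hQ fun a ha =>
    mem_centralizer_singleton_iff.2 (hM.pp_comm hS ((hM.sylow_le_pp' hS Q hQ).2 ha) hy)

/-- `O_{p'}(M)` is a TI-subgroup. -/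
theorem mem_of_conj_mem_pp {y g : G} (hy : y ∈ pp p M) (hy1 : y ≠ 1)
    (hgy : g * y * g⁻¹ ∈ pp p M) : g ∈ M := by
  obtain ⟨Q, hQ⟩ := hM.exists_sylow
  have hQY := hM.sylow_le_pp hS hQ
  refine hM.normalizer_le Q hQ (PSolvable.mem_normalizer_of_conj_mem fun x hx => ?_)
  have hgy1 : g * y * g⁻¹ ≠ 1 := fun h => hy1 (conj_eq_one_iff.1 h)
  have hQ'M : (Q : Subgroup G).map (MulAut.conj g).toMonoidHom ≤ M := by
    rintro _ ⟨x, hx, rfl⟩
    refine hM.centralizer_le_of_mem_pp hS hgy hgy1 (conj_centralizer_mem ?_)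
    exact mem_centralizer_singleton_iff.2 (hM.pp_comm hS (hQY hx) hy)
  have hQ'Y : (Q : Subgroup G).map (MulAut.conj g).toMonoidHom ≤ pp p M := by
    intro z hz
    refine hM.mem_pp hS (hQ'M hz) ?_
    have hq' := hS.coprime_of_pGroup hM.ne_p (Q.2.map (MulAut.conj g).toMonoidHom)
    exact hq'.coprime_dvd_left (orderOf_dvd_natCard _ hz)
  obtain ⟨m, hm, hm'⟩ := exists_conj_mem Q hQY hQ'Y (Q.2.map _)
  have h := hm' _ ⟨x, hx, rfl⟩
  simp only [MulEquiv.coe_toMonoidHom, MulAut.conj_apply] at h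
  have hxY : g * x * g⁻¹ ∈ pp p M := hQ'Y ⟨x, hx, rfl⟩
  rwa [hM.pp_comm hS hm hxY, mul_inv_cancel_right] at h

end Seed

namespace Setting

variable (hS : Setting G p)

include hS

/-- The seed given by the signalizer functor `a ↦ O_{q'}(C(a))`, when its values have odd order. -/
theorem exists_seed_of_odd (hqp : q ≠ p) (hd : q ∣ Nat.card G) (Q : Sylow q G)
    (hodd : ∀ a ∈ omega q (Q : Subgroup G), a ≠ 1 →
      Odd (Nat.card (Cfsg.centralizerPPrimeCore q a))) :
    ∃ M : Subgroup G, Seed p q M := by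
  set A := omega q (Q : Subgroup G) with hA
  have hQc := hS.sylow_comm hqp Q.2
  have hA3 := hS.sylow_three hqp hd Q
  have hAe : Cfsg.IsElementaryAbelian q A := isElementaryAbelian_omega hQc
  have hθ := Cfsg.Agent.S1279.result q A hAe
    ((Nat.pow_le_pow_right hq.out.pos (by norm_num)).trans hA3)
    fun a _ ha1 => hS.solvable_centralizer ha1
  obtain ⟨hXd, hXs, -, -⟩ := SignalizerSolvable.closure_of_odd hAe hA3 hθ hodd
  set θ := fun a : G => Cfsg.centralizerPPrimeCore q a with hθdef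
  set X := Cfsg.signalizerClosure A θ with hX
  have hXle : ∀ a, (ha : a ∈ A) → (ha1 : a ≠ 1) → θ a ≤ X := fun a ha ha1 =>
    le_iSup (fun b : {b : G // b ∈ A ∧ b ≠ 1} => θ b.1) ⟨a, ha, ha1⟩
  have hNX : normalizer ((Q : Subgroup G) : Set G) ≤ normalizer (X : Set G) := by
    intro n hn
    refine PSolvable.mem_normalizer_of_conj_mem ?_
    suffices h : X.map (MulAut.conj n).toMonoidHom ≤ X from fun x hx => h ⟨x, hx, rfl⟩
    rw [hX, Cfsg.signalizerClosure, Subgroup.map_iSup, iSup_le_iff]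
    rintro ⟨a, ha, ha1⟩
    have hmem : n * a * n⁻¹ ∈ A := (mem_omega hQc).2
      ⟨(mem_normalizer_iff.1 hn a).1 ((mem_omega hQc).1 ha).1,
        by rw [conj_pow, ((mem_omega hQc).1 ha).2, mul_one, mul_inv_cancel]⟩
    refine le_trans ?_ (hXle _ hmem fun h => ha1 (conj_eq_one_iff.1 h))
    refine (map_pp_le (p := q) _ (MulAut.conj n).injective _).trans (le_of_eq ?_)
    have hC : (centralizer ({a} : Set G)).map (MulAut.conj n).toMonoidHom =
        centralizer ({n * a * n⁻¹} : Set G) := by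
      refine le_antisymm ?_ fun c hc => ⟨n⁻¹ * c * n, ?_, ?_⟩
      · rintro _ ⟨c, hc, rfl⟩
        exact conj_centralizer_mem hc
      · have := conj_centralizer_mem (m := n⁻¹) hc
        simpa [mul_assoc] using this
      · simp only [MulEquiv.coe_toMonoidHom, MulAut.conj_apply]
        group
    rw [hC]
    rfl
  have hCX : ∀ a ∈ (Q : Subgroup G), a ^ q = 1 → a ≠ 1 →
      centralizer ({a} : Set G) ≤ X ⊔ normalizer ((Q : Subgroup G) : Set G) := by
    intro a haQ haq ha1 c hc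
    have hQC : (Q : Subgroup G) ≤ centralizer ({a} : Set G) := le_centralizer_of_mem hQc haQ
    obtain ⟨o, ho, n, -, hn, rfl⟩ :=
      hS.exists_factor (hS.centralizer_ne_top ha1) hqp (Q.subtype hQC) hc
    rw [Sylow.coe_subtype, subgroupOf_map_subtype, inf_eq_left.2 hQC] at hn
    exact mul_mem (mem_sup_left (hXle a ((mem_omega hQc).2 ⟨haQ, haq⟩) ha1 ho)) (mem_sup_right hn)
  by_cases hX1 : X = ⊥
  · refine ⟨normalizer ((Q : Subgroup G) : Set G), seed_of_sylow (hS.normalizer_sylow_ne_top hd Q)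
      hqp hd Q le_rfl fun a h1 h2 h3 => ?_⟩
    have := hCX a h1 h2 h3
    rwa [hX1, bot_sup_eq] at this
  · exact ⟨normalizer (X : Set G), seed_of_sylow
      (hS.normalizer_ne_top hX1 (hS.ne_top_of_solvable hXs)) hqp hd Q hNX
      fun a h1 h2 h3 => (hCX a h1 h2 h3).trans (sup_le le_normalizer hNX)⟩

/-- Every prime other than `p` dividing the order has a seed. -/
theorem exists_seed (hqp : q ≠ p) (hd : q ∣ Nat.card G) : ∃ M : Subgroup G, Seed p q M := by
  obtain ⟨Q⟩ : Nonempty (Sylow q G) := inferInstance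
  by_cases hodd : ∀ a ∈ omega q (Q : Subgroup G), a ≠ 1 →
      Odd (Nat.card (Cfsg.centralizerPPrimeCore q a))
  · exact hS.exists_seed_of_odd hqp hd Q hodd
  push Not at hodd
  obtain ⟨a, ha, ha1, hev⟩ := hodd
  rw [Nat.not_odd_iff_even, even_iff_two_dvd] at hev
  have : Fact (Nat.Prime 2) := ⟨Nat.prime_two⟩
  obtain ⟨t, ht⟩ := exists_prime_orderOf_dvd_card' 2 hev
  have h5 := hS.five
  have h2p : 2 ≠ p := by omega
  have h2d : 2 ∣ Nat.card G := hev.trans (card_subgroup_dvd_card _)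
  obtain ⟨Q2⟩ : Nonempty (Sylow 2 G) := inferInstance
  obtain ⟨M, hM⟩ := hS.exists_seed_of_odd h2p h2d Q2 fun b _ _ => by
    rw [Nat.odd_iff, ← Nat.two_dvd_ne_zero]
    exact (Nat.prime_two.coprime_iff_not_dvd).1 (pp_coprime _).symm
  have htG : orderOf (t : G) = 2 := by rw [orderOf_coe]; exact ht
  have htC : (t : G) ∈ centralizer ({a} : Set G) :=
    Cfsg.Agent.Lib.Components.centralizerPPrimeCore_le_centralizer a t.2
  obtain ⟨R, hR⟩ := hM.exists_sylow
  have ht2 : IsPGroup 2 (zpowers (t : G)) := IsPGroup.of_card (n := 1) (by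
    rw [Nat.card_zpowers, htG, pow_one])
  obtain ⟨S, hS'⟩ := ht2.exists_le_sylow
  obtain ⟨g, hg⟩ := MulAction.exists_smul_eq G S R
  have htM : g * (t : G) * g⁻¹ ∈ pp p M := by
    refine hM.sylow_le_pp hS hR ?_
    show g * (t : G) * g⁻¹ ∈ (R : Subgroup G)
    rw [← hg, Sylow.coe_subgroup_smul]
    exact smul_mem_pointwise_smul (t : G) (MulAut.conj g) _ (hS' (mem_zpowers _))
  have ht1 : g * (t : G) * g⁻¹ ≠ 1 := fun h => by
    rw [conj_eq_one_iff.1 h, orderOf_one] at htG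
    omega
  have haM : g * a * g⁻¹ ∈ M := by
    refine hM.centralizer_le_of_mem_pp hS htM ht1 (conj_centralizer_mem ?_)
    exact mem_centralizer_singleton_iff.2 (mem_centralizer_singleton_iff.1 htC).symm
  have hQc := hS.sylow_comm hqp Q.2
  have hqM : q ∣ Nat.card M := by
    have h1 : orderOf (g * a * g⁻¹) = q := by
      rw [← MulAut.conj_apply, MulEquiv.orderOf_eq]
      exact orderOf_eq_prime ((mem_omega hQc).1 ha).2 ha1
    rw [← h1]
    exact orderOf_dvd_natCard _ haM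
  exact ⟨M, (hM.seed_of_prime hS hqp hqM).1⟩

end Setting

end Cfsg.Agent.Lib.PrimeAbelian
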