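import Mathlib
import Cfsg.Agent.Lib.PrimeAbelian.Structure

/-!
The structure of `K = N(Z(J(P)))`: a normal Sylow subgroup with a nontrivial abelian complement
lying in `O_{p'}` of a seed.
-/

set_option autoImplicit false

namespace Cfsg.Agent.Lib.PrimeAbelian

open Subgroup
open scoped Pointwise

universe u

/-- A finite group whose primes are at most `p` and whose Sylow subgroups for the smaller primes
are cyclic has a normal Sylow `p`-subgroup. -/
theorem sylow_normal_of_cyclic {p : ℕ} [hp : Fact p.Prime] :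
    ∀ {X : Type u} [Group X] [Finite X], (∀ q : ℕ, q.Prime → q ∣ Nat.card X → q ≤ p) →
      (∀ q : ℕ, q.Prime → q ≠ p → ∀ H : Subgroup X, IsPGroup q H → IsCyclic H) →
      ∀ P : Sylow p X, (P : Subgroup X).Normal := by
  intro X _ _
  induction hn : Nat.card X using Nat.strong_induction_on generalizing X with
  | _ n ih =>
    intro hle hcyc P
    subst hn
    by_cases htop : (P : Subgroup X) = ⊤
    · rw [htop]; infer_instance
    have hne : Nat.card X ≠ 1 := fun h =>
      htop (eq_top_of_card_eq _ (Nat.le_antisymm (card_le_card_group _) (h ▸ Nat.card_pos)))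
    have : Fact (Nat.card X).minFac.Prime := ⟨Nat.minFac_prime hne⟩
    set q := (Nat.card X).minFac with hq
    have hqd : q ∣ Nat.card X := Nat.minFac_dvd _
    have hqp : q ≠ p := by
      intro he
      refine htop (eq_top_of_card_eq _ ?_)
      refine Nat.dvd_antisymm (card_subgroup_dvd_card _) ?_
      rw [Nat.dvd_iff_prime_pow_dvd_dvd]
      intro r e hr hre
      rcases Nat.eq_zero_or_pos e with rfl | he0
      · simp
      have h1 : r ∣ Nat.card X := (dvd_pow_self r he0.ne').trans hre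
      have h2 := Nat.minFac_le_of_dvd hr.two_le h1
      have h3 := hle r hr h1
      obtain rfl : r = p := by omega
      exact P.pow_dvd_card_of_pow_dvd_card hre
    obtain ⟨R⟩ : Nonempty (Sylow q X) := inferInstance
    have : IsCyclic (R : Subgroup X) := hcyc q (Fact.out) hqp _ R.2
    have hR := IsCyclic.normalizer_le_centralizer (P := R) hq inferInstance
    set W := (MonoidHom.transferSylow R hR).ker with hW
    have hcompl := MonoidHom.ker_transferSylow_isComplement' R hR
    have hWlt : Nat.card W < Nat.card X := by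
      rw [← hcompl.card_mul_card]
      refine lt_mul_of_one_lt_right Nat.card_pos ?_
      exact Finite.one_lt_card_iff_nontrivial.2
        ((nontrivial_iff_ne_bot _).2 (R.ne_bot_of_dvd_card hqd))
    have hPW : (P : Subgroup X) ≤ W := by
      intro x hx
      rw [hW, MonoidHom.mem_ker]
      obtain ⟨i, hi⟩ := P.2 ⟨x, hx⟩
      obtain ⟨j, hj⟩ := R.2 (MonoidHom.transferSylow R hR x)
      have h1 : orderOf (MonoidHom.transferSylow R hR x) ∣ p ^ i :=
        orderOf_dvd_of_pow_eq_one (by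
          rw [← map_pow, show x ^ p ^ i = 1 by simpa using congrArg Subtype.val hi, map_one])
      have h2 := orderOf_dvd_of_pow_eq_one hj
      exact orderOf_eq_one_iff.1 (Nat.eq_one_of_dvd_coprimes (Nat.Coprime.pow i j
        ((Nat.coprime_primes hp.out Fact.out).2 hqp.symm)) h1 h2)
    have hWn : W.Normal := inferInstance
    have hnW := ih _ hWlt (X := W) rfl
      (fun r hr hd => hle r hr (hd.trans (card_subgroup_dvd_card W)))
      (fun r hr hrp H hH => by
        have := hcyc r hr hrp (H.map W.subtype) (hH.map _)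
        exact (H.equivMapOfInjective _ W.subtype_injective).isCyclic.2 this)
      (P.subtype hPW)
    have : ((P.subtype hPW : Sylow p W) : Subgroup W).Characteristic :=
      Sylow.characteristic_of_normal _ hnW
    have h := ConjAct.normal_of_characteristic_of_normal (H := W)
      (K := ((P.subtype hPW : Sylow p W) : Subgroup W))
    rwa [Sylow.coe_subtype, subgroupOf_map_subtype, inf_eq_left.2 hPW] at h

variable {G : Type u} [Group G] [Finite G] {p : ℕ} [hp : Fact p.Prime]

theorem zjN_map_conj (g : G) (P : Subgroup G) :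
    (zjN P).map (MulAut.conj g).toMonoidHom = zjN (P.map (MulAut.conj g).toMonoidHom) := by
  rw [zjN, zjN, ZJ.zj_map _ (MulAut.conj g).injective.injOn]
  exact map_equiv_normalizer_eq _ _

namespace Setting

variable (hS : Setting G p)

include hS

theorem zjN_conj_not_le (P : Sylow p G) {q : ℕ} [Fact q.Prime] {M : Subgroup G}
    (hM : Seed p q M) (g : G) :
    ¬ (zjN (P : Subgroup G)).map (MulAut.conj g).toMonoidHom ≤ M := by
  rw [zjN_map_conj]
  exact hM.not_zjN_le hS (g • P)

/-- A `q`-subgroup can be conjugated into `O_{p'}` of a seed. -/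
theorem exists_conj_le_pp {q : ℕ} [Fact q.Prime] {M A : Subgroup G} (hM : Seed p q M)
    (hA : IsPGroup q A) : ∃ g : G, ∀ x ∈ A, g * x * g⁻¹ ∈ pp p M := by
  obtain ⟨S, hS'⟩ := hA.exists_le_sylow
  obtain ⟨R, hR⟩ := hM.exists_sylow
  obtain ⟨g, hg⟩ := MulAction.exists_smul_eq G S R
  refine ⟨g, fun x hx => hM.sylow_le_pp hS hR ?_⟩
  show g * x * g⁻¹ ∈ (R : Subgroup G)
  rw [← hg, Sylow.coe_subgroup_smul]
  exact smul_mem_pointwise_smul x (MulAut.conj g) _ (hS' hx)

theorem zjN_no_rank (P : Sylow p G) {q : ℕ} [hq : Fact q.Prime] (hqp : q ≠ p) {A : Subgroup G}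
    (hAK : A ≤ zjN (P : Subgroup G)) (hA : IsPGroup q A) (hexp : ∀ a ∈ A, a ^ q = 1) :
    IsCyclic A := by
  by_contra hnc
  have hd : q ∣ Nat.card G := by
    obtain ⟨n, hn⟩ := IsPGroup.iff_card.1 hA
    rcases Nat.eq_zero_or_pos n with rfl | hn0
    · rw [pow_zero, card_eq_one] at hn
      exact absurd (by rw [hn]; infer_instance) hnc
    exact ((dvd_pow_self q hn0.ne').trans (hn ▸ card_subgroup_dvd_card A))
  obtain ⟨M, hM⟩ := hS.exists_seed hqp hd
  obtain ⟨g, hg⟩ := hS.exists_conj_le_pp hM hA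
  refine hS.zjN_conj_not_le P hM g (hM.le_of_noncyclic hS ?_ (map_mono hAK) ?_ (hA.map _) ?_ ?_)
  · rw [zjN_map_conj]
    exact hS.zjN_ne_top (g • P).2 (hS.sylow_p_ne_bot (g • P))
  · rintro _ ⟨a, ha, rfl⟩
    exact pp_le M (hg a ha)
  · rintro _ ⟨a, ha, rfl⟩
    rw [← map_pow, hexp a ha, map_one]
  · exact fun h => hnc ((A.equivMapOfInjective _ (MulAut.conj g).injective).isCyclic.2 h)

theorem zjN_pGroup_cyclic (P : Sylow p G) {q : ℕ} [hq : Fact q.Prime] (hqp : q ≠ p) {A : Subgroup G}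
    (hAK : A ≤ zjN (P : Subgroup G)) (hA : IsPGroup q A) : IsCyclic A := by
  by_contra hnc
  have hc := hS.sylow_comm hqp hA
  obtain ⟨r, hr, a, haA, b, hbA, ha, hb, hb1, hab⟩ := Coprime.exists_pair_of_not_isCyclic hnc
  have : Fact r.Prime := ⟨hr⟩
  obtain rfl : r = q := by
    obtain ⟨n, hn⟩ := hA ⟨b, hbA⟩
    have h1 : b ^ q ^ n = 1 := by simpa using congrArg Subtype.val hn
    have h2 := orderOf_dvd_of_pow_eq_one h1
    rw [orderOf_eq_prime hb hb1] at h2
    exact (Nat.prime_dvd_prime_iff_eq hr hq.out).1 (hr.dvd_of_dvd_pow h2)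
  have hΩ := hS.zjN_no_rank P hqp ((omega_le r A).trans hAK) (hA.to_le (omega_le r A))
    fun x hx => ((mem_omega hc).1 hx).2
  obtain ⟨c, hc'⟩ := hΩ.exists_generator
  obtain ⟨i, hi⟩ := mem_zpowers_iff.1 (hc' ⟨b, (mem_omega hc).2 ⟨hbA, hb⟩⟩)
  obtain ⟨j, hj⟩ := mem_zpowers_iff.1 (hc' ⟨a, (mem_omega hc).2 ⟨haA, ha⟩⟩)
  have hi' : (c : G) ^ i = b := by simpa using congrArg Subtype.val hi
  have hj' : (c : G) ^ j = a := by simpa using congrArg Subtype.val hj
  have hcr : (c : G) ^ r = 1 := ((mem_omega hc).1 c.2).2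
  refine hab ?_
  have hle : zpowers b ≤ zpowers (c : G) := zpowers_le.2 ⟨i, hi'⟩
  have heq : zpowers b = zpowers (c : G) := eq_of_le_of_card_ge hle (by
    rw [Nat.card_zpowers, Nat.card_zpowers, orderOf_eq_prime hb hb1]
    exact Nat.le_of_dvd hr.pos (orderOf_dvd_of_pow_eq_one hcr))
  rw [heq]
  exact ⟨j, hj'⟩

/-- `O_{p'}(K) = 1`. -/
theorem pp_zjN_eq_bot (P : Sylow p G) : pp p (zjN (P : Subgroup G)) = ⊥ := by
  set K := zjN (P : Subgroup G)
  set Y := pp p K with hY
  by_contra hne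
  obtain ⟨q, hq, hqY⟩ := Nat.exists_prime_and_dvd (n := Nat.card Y) fun h => hne (eq_bot_of_card_eq Y h)
  have : Fact q.Prime := ⟨hq⟩
  have hqp : q ≠ p := fun h =>
    hq.one_lt.ne' (Nat.eq_one_of_dvd_coprimes (pp_coprime K) hqY (h ▸ dvd_rfl))
  have hYc : IsMulCommutative Y := (hS.ab Y (pp_coprime K)).1
  set W := omega q Y
  have hW : IsPGroup q W := fun x => ⟨1, Subtype.ext (by simpa using ((mem_omega hYc).1 x.2).2)⟩
  obtain ⟨y, hy⟩ := exists_prime_orderOf_dvd_card' q hqY
  have hyG : orderOf (y : G) = q := by rw [orderOf_coe]; exact hy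
  have hyW : (y : G) ∈ W := (mem_omega hYc).2 ⟨y.2, hyG ▸ pow_orderOf_eq_one _⟩
  have hy1 : (y : G) ≠ 1 := fun h => hq.one_lt.ne' (by rw [← hyG, h, orderOf_one])
  obtain ⟨M, hM⟩ := hS.exists_seed hqp ((hqY.trans (card_subgroup_dvd_card Y)))
  obtain ⟨g, hg⟩ := hS.exists_conj_le_pp hM hW
  refine hS.zjN_conj_not_le P hM g ?_
  rintro _ ⟨n, hn, rfl⟩
  have hn' : n * y * n⁻¹ ∈ W := (mem_omega hYc).2 ⟨conj_mem_pp hn y.2, by
    rw [conj_pow, ← hyG, pow_orderOf_eq_one, mul_one, mul_inv_cancel]⟩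
  refine hM.mem_of_conj_mem_pp hS (hg _ hyW) (fun h => hy1 (conj_eq_one_iff.1 h)) ?_
  have := hg _ hn'
  simp only [MulEquiv.coe_toMonoidHom, MulAut.conj_apply]
  rwa [show g * n * g⁻¹ * (g * y * g⁻¹) * (g * n * g⁻¹)⁻¹ = g * (n * y * n⁻¹) * g⁻¹ by group]

theorem prime_le_of_dvd {r : ℕ} (hr : r.Prime) (hd : r ∣ Nat.card G) : r ≤ p := by
  have : Fact r.Prime := ⟨hr⟩
  by_cases h : r = p
  · exact h.le
  · exact (Nat.le_of_succ_le (hS.succ_lt hd h).le)

/-- `P` is normal in `K`. -/
theorem zjN_le_normalizer (P : Sylow p G) :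
    zjN (P : Subgroup G) ≤ normalizer ((P : Subgroup G) : Set G) := by
  set K := zjN (P : Subgroup G) with hK
  have hPK : (P : Subgroup G) ≤ K := le_normalizer.trans (normalizer_le_zjN _)
  have h := sylow_normal_of_cyclic (p := p) (X := K)
    (fun r hr hd => hS.prime_le_of_dvd hr (hd.trans (card_subgroup_dvd_card K)))
    (fun r hr hrp H hH => by
      have : Fact r.Prime := ⟨hr⟩
      have := hS.zjN_pGroup_cyclic P hrp (map_subtype_le H) (hH.map K.subtype)
      exact (H.equivMapOfInjective _ K.subtype_injective).isCyclic.2 this)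
    (P.subtype hPK)
  rw [Sylow.coe_subtype] at h
  exact (normal_subgroupOf_iff_le_normalizer hPK).1 h

/-- A `p'`-complement in `K` acts faithfully on `P`. -/
theorem eq_one_of_centralizes (P : Sylow p G) {L : Subgroup G} (hLK : L ≤ zjN (P : Subgroup G))
    (hLc : (Nat.card L).Coprime p)
    (hgen : zjN (P : Subgroup G) ≤ (P : Subgroup G) ⊔ L) {h : G} (hh : h ∈ L)
    (hcomm : ∀ x ∈ (P : Subgroup G), h * x = x * h) : h = 1 := by
  have hcK : zjN (P : Subgroup G) ≤ centralizer ({h} : Set G) := hgen.trans (sup_le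
    (fun x hx => mem_centralizer_singleton_iff.2 (hcomm x hx).symm)
    (fun l hl => mem_centralizer_singleton_iff.2 (hS.comm_of_coprime hLc hl hh)))
  have hle : zpowers h ≤ pp p (zjN (P : Subgroup G)) := by
    refine le_pp (zpowers_le.2 (hLK hh)) (fun k hk => ?_)
      (hLc.coprime_dvd_left (card_dvd_of_le (zpowers_le.2 hh)))
    refine PSolvable.mem_normalizer_of_conj_mem fun x hx => ?_
    obtain ⟨i, rfl⟩ := mem_zpowers_iff.1 hx
    rw [((show Commute k h from mem_centralizer_singleton_iff.1 (hcK hk)).zpow_right i).eq,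
      mul_inv_cancel_right]
    exact hx
  rw [hS.pp_zjN_eq_bot P] at hle
  exact mem_bot.1 (hle (mem_zpowers h))

end Setting

/-- The data of the final contradiction. -/
structure Frame (G : Type u) [Group G] (p : ℕ) where
  P : Sylow p G
  q : ℕ
  q_prime : q.Prime
  M : Subgroup G
  seed : Seed p q M
  L : Subgroup G
  L_le : L ≤ zjN (P : Subgroup G)
  L_le_pp : L ≤ pp p M
  one_lt : 1 < Nat.card L
  card_eq : Nat.card (zjN (P : Subgroup G)) = Nat.card L * Nat.card (P : Subgroup G)
  gen : zjN (P : Subgroup G) ≤ (P : Subgroup G) ⊔ L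

namespace Setting

variable (hS : Setting G p)

include hS

theorem exists_complement (P : Sylow p G) :
    ∃ L : Subgroup G, L ≤ zjN (P : Subgroup G) ∧ (Nat.card L).Coprime p ∧ 1 < Nat.card L ∧
      Nat.card (zjN (P : Subgroup G)) = Nat.card L * Nat.card (P : Subgroup G) ∧
      zjN (P : Subgroup G) ≤ (P : Subgroup G) ⊔ L := by
  set K := zjN (P : Subgroup G) with hK
  have hPK : (P : Subgroup G) ≤ K := le_normalizer.trans (normalizer_le_zjN _)
  have hKs := hS.solv K (hS.zjN_ne_top P.2 (hS.sylow_p_ne_bot P))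
  obtain ⟨L, hLK, -, hLc, k, hk⟩ := exists_hall_ge (p := p) hKs (bot_le : ⊥ ≤ K) (by simp)
  obtain ⟨e, he⟩ := IsPGroup.iff_card.1 P.2
  have hpk : p ^ k = Nat.card (P : Subgroup G) := by
    refine Nat.dvd_antisymm ?_ ?_
    · exact P.pow_dvd_card_of_pow_dvd_card
        ((dvd_mul_left _ (Nat.card L)).trans (hk ▸ card_subgroup_dvd_card K))
    · rw [he]
      have h1 : p ^ e ∣ Nat.card L * p ^ k := by rw [← hk, ← he]; exact card_dvd_of_le hPK
      exact (Nat.Coprime.pow_left e hLc.symm).dvd_of_dvd_mul_left h1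
  have hcard : Nat.card K = Nat.card L * Nat.card (P : Subgroup G) := hpk ▸ hk
  have hgen : K ≤ (P : Subgroup G) ⊔ L := by
    have heq : (P : Subgroup G) ⊔ L = K := eq_of_le_of_card_ge (sup_le hPK hLK) (by
      refine Nat.le_of_dvd Nat.card_pos (hcard ▸ ?_)
      exact ((Nat.Coprime.pow_left e hLc.symm).symm).mul_dvd_of_dvd_of_dvd
        (card_dvd_of_le le_sup_right) (he ▸ card_dvd_of_le le_sup_left) |> fun h => by rwa [he])
    exact heq.ge
  refine ⟨L, hLK, hLc, ?_, hcard, hgen⟩
  by_contra h1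
  have hL1 : L = ⊥ := eq_bot_of_card_le L (by omega)
  rw [hL1, sup_bot_eq] at hgen
  have hKP : K = (P : Subgroup G) := le_antisymm hgen hPK
  have hder := hS.sylow_le_commutator_zjN P
  rw [← hK, hKP] at hder
  have : Nontrivial (P : Subgroup G) := (nontrivial_iff_ne_bot _).2 (hS.sylow_p_ne_bot P)
  have := P.2.isNilpotent
  have hlt := Group.IsSolvable.commutator_lt_top_of_nontrivial (P : Subgroup G)
  refine hlt.ne (top_le_iff.1 fun x _ => ?_)
  have := hder x.2
  rw [← map_subtype_commutator] at this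
  obtain ⟨y, hy, hyx⟩ := this
  rwa [← Subtype.ext hyx]

theorem exists_frame : Nonempty (Frame G p) := by
  obtain ⟨P⟩ : Nonempty (Sylow p G) := inferInstance
  obtain ⟨L, hLK, hLc, hL1, hcard, hgen⟩ := hS.exists_complement P
  obtain ⟨q, hq, hqL⟩ := Nat.exists_prime_and_dvd hL1.ne'
  have : Fact q.Prime := ⟨hq⟩
  have hqp : q ≠ p := fun h =>
    hq.one_lt.ne' (Nat.eq_one_of_dvd_coprimes hLc hqL (h ▸ dvd_rfl))
  obtain ⟨y, hy⟩ := exists_prime_orderOf_dvd_card' q hqL
  have hyG : orderOf (y : G) = q := by rw [orderOf_coe]; exact hy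
  obtain ⟨M, hM⟩ := hS.exists_seed hqp (hqL.trans (card_subgroup_dvd_card L))
  obtain ⟨g, hg⟩ := hS.exists_conj_le_pp hM
    (isPGroup_zpowers_of_pow (x := (y : G)) (hyG ▸ pow_orderOf_eq_one _))
  have hy' := hg _ (mem_zpowers _)
  have hy1 : g * y * g⁻¹ ≠ 1 := fun h => hq.one_lt.ne' (by
    rw [← hyG, conj_eq_one_iff.1 h, orderOf_one])
  set φ := (MulAut.conj g).toMonoidHom with hφ
  have hφi : Function.Injective φ := (MulAut.conj g).injective
  have hL'M : L.map φ ≤ pp p M := by
    rintro _ ⟨l, hl, rfl⟩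
    refine hM.mem_pp hS (hM.centralizer_le_of_mem_pp hS hy' hy1 (conj_centralizer_mem ?_)) ?_
    · exact mem_centralizer_singleton_iff.2 (hS.comm_of_coprime hLc hl y.2)
    · rw [orderOf_injective φ hφi]
      exact hLc.coprime_dvd_left (orderOf_dvd_natCard L hl)
  have hP' : ((g • P : Sylow p G) : Subgroup G) = (P : Subgroup G).map φ := rfl
  have hK' : zjN ((g • P : Sylow p G) : Subgroup G) = (zjN (P : Subgroup G)).map φ := by
    rw [hP', hφ, zjN_map_conj]
  exact ⟨{
    P := g • P
    q := q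
    q_prime := hq
    M := M
    seed := hM
    L := L.map φ
    L_le := by rw [hK']; exact map_mono hLK
    L_le_pp := hL'M
    one_lt := by rwa [card_map_of_injective hφi]
    card_eq := by
      rw [hK', hP', card_map_of_injective hφi, card_map_of_injective hφi,
        card_map_of_injective hφi, hcard]
    gen := by
      rw [hK', hP', ← Subgroup.map_sup]
      exact map_mono hgen }⟩

end Setting

end Cfsg.Agent.Lib.PrimeAbelian
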