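import Mathlib
import Cfsg.Agent.Lib.PrimeAbelian.Control

/-!
Centralizers of `p`-subgroups are `O_{p'}` times their intersection with `N(Z(J(P)))`; so they have
the same proportion of `p'`-elements as these intersections.
-/

set_option autoImplicit false

namespace Cfsg.Agent.Lib.PrimeAbelian

open Subgroup
open scoped Pointwise

universe u

variable {G : Type u} [Group G] [Finite G] {p : ℕ} [hp : Fact p.Prime]

/-- The number of `p'`-elements of a subgroup. -/
noncomputable def npel (p : ℕ) {G : Type*} [Group G] (X : Subgroup G) : ℕ :=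
  Nat.card {x : G // x ∈ X ∧ (orderOf x).Coprime p}

/-- The number of `p'`-elements of a group. -/
noncomputable def pnum (p : ℕ) (X : Type*) [Group X] : ℕ :=
  Nat.card {x : X // (orderOf x).Coprime p}

omit [Finite G] hp in
theorem npel_eq_pnum (X : Subgroup G) : npel p X = pnum p X :=
  Nat.card_congr
    { toFun := fun x => ⟨⟨x.1, x.2.1⟩, by rw [orderOf_mk]; exact x.2.2⟩
      invFun := fun x => ⟨x.1.1, x.1.2, by rw [orderOf_coe]; exact x.2⟩
      left_inv := fun _ => rfl
      right_inv := fun _ => rfl }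

omit hp in
theorem pnum_of_surjective {C Q : Type*} [Group C] [Finite C] [Group Q] (φ : C →* Q)
    (hφ : Function.Surjective φ) (hk : (Nat.card φ.ker).Coprime p) :
    pnum p C = Nat.card φ.ker * pnum p Q := by
  have hiff : ∀ x : C, (orderOf x).Coprime p ↔ (orderOf (φ x)).Coprime p := by
    intro x
    refine ⟨fun h => h.coprime_dvd_left (orderOf_map_dvd φ x), fun h => ?_⟩
    have h1 : x ^ orderOf (φ x) ∈ φ.ker := by
      rw [MonoidHom.mem_ker, map_pow, pow_orderOf_eq_one]
    have h2 : orderOf x ∣ orderOf (φ x) * Nat.card φ.ker := by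
      refine orderOf_dvd_of_pow_eq_one ?_
      rw [pow_mul]
      simpa using congrArg Subtype.val (pow_card_eq_one' (x := (⟨_, h1⟩ : φ.ker)))
    exact (Nat.Coprime.mul_left h hk).coprime_dvd_left h2
  rw [pnum, pnum, ← Nat.card_prod]
  refine Nat.card_congr
    { toFun := fun x => (⟨x.1 * (Function.surjInv hφ (φ x.1))⁻¹, by
        rw [MonoidHom.mem_ker, map_mul, map_inv, Function.surjInv_eq hφ, mul_inv_cancel]⟩,
        ⟨φ x.1, (hiff x.1).1 x.2⟩)
      invFun := fun z => ⟨(z.1 : C) * Function.surjInv hφ z.2.1, (hiff _).2 (by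
        rw [map_mul, MonoidHom.mem_ker.1 z.1.2, one_mul, Function.surjInv_eq hφ]
        exact z.2.2)⟩
      left_inv := fun x => Subtype.ext (inv_mul_cancel_right _ _)
      right_inv := fun z => by
        have h : φ ((z.1 : C) * Function.surjInv hφ z.2.1) = z.2.1 := by
          rw [map_mul, MonoidHom.mem_ker.1 z.1.2, one_mul, Function.surjInv_eq hφ]
        refine Prod.ext (Subtype.ext ?_) (Subtype.ext h)
        show (z.1 : C) * Function.surjInv hφ z.2.1 * (Function.surjInv hφ _)⁻¹ = z.1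
        rw [h, mul_inv_cancel_right] }

namespace Setting

variable (hS : Setting G p)

include hS

theorem centralizer_set_ne_top {T : Subgroup G} (hT : T ≠ ⊥) : centralizer (T : Set G) ≠ ⊤ := by
  obtain ⟨⟨x, hx⟩, hx1⟩ := (nontrivial_iff_exists_ne (1 : T)).1 ((nontrivial_iff_ne_bot _).2 hT)
  exact fun h => hS.centralizer_ne_top (x := x) (fun e => hx1 (Subtype.ext e))
    (top_le_iff.1 (h ▸ Subgroup.centralizer_le (Set.singleton_subset_iff.2 hx)))

/-- `P ∩ C(T)` is a Sylow subgroup of `C(T)` for `T ≤ P`. -/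
theorem sylow_centralizer (P : Sylow p G) {T : Subgroup G} (hTP : T ≤ (P : Subgroup G)) :
    Nat.card ((P : Subgroup G).subgroupOf (centralizer (T : Set G))) =
      p ^ (Nat.card (centralizer (T : Set G))).factorization p := by
  set C := centralizer (T : Set G) with hC
  have hp' : IsPGroup p ((P : Subgroup G).subgroupOf C) := P.2.comap_subtype
  obtain ⟨S⟩ : Nonempty (Sylow p C) := inferInstance
  set S' := (S : Subgroup C).map C.subtype with hS'
  have hS'T : S' ≤ normalizer (T : Set G) := by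
    rintro _ ⟨s, -, rfl⟩
    exact centralizer_le_normalizer (T : Set G) s.2
  obtain ⟨U, hU⟩ := ((S.2.map C.subtype).to_sup_of_normal_right' (P.2.to_le hTP) hS'T).exists_le_sylow
  obtain ⟨g, hg⟩ := MulAction.exists_smul_eq G U P
  have hgU : ∀ x ∈ (U : Subgroup G), g * x * g⁻¹ ∈ (P : Subgroup G) := fun x hx => by
    rw [← hg, Sylow.coe_subgroup_smul]
    exact smul_mem_pointwise_smul x (MulAut.conj g) _ hx
  obtain ⟨n, hn, hnT⟩ := hS.control P (X := (T : Set G)) hTP g fun x hx =>
    hgU x (hU (mem_sup_right hx))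
  have hw : n⁻¹ * g ∈ C := mem_centralizer_iff.2 fun t ht => by
    have h1 := hnT t ht
    calc t * (n⁻¹ * g) = n⁻¹ * (n * t * n⁻¹) * g := by group
      _ = n⁻¹ * (g * t * g⁻¹) * g := by rw [h1]
      _ = n⁻¹ * g * t := by group
  refine Nat.dvd_antisymm ?_ ?_
  · obtain ⟨e, he⟩ := IsPGroup.iff_card.1 hp'
    rw [he]
    exact Nat.pow_dvd_pow _ ((hp.out.pow_dvd_iff_le_factorization Nat.card_pos.ne').1
      (he ▸ card_subgroup_dvd_card _))
  · rw [← S.card_eq_multiplicity,
      ← card_map_of_injective (K := (S : Subgroup C)) (f := (MulAut.conj (⟨_, hw⟩ : C)).toMonoidHom)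
        (MulAut.conj (⟨_, hw⟩ : C)).injective]
    refine card_dvd_of_le ?_
    rintro _ ⟨s, hs, rfl⟩
    rw [mem_subgroupOf]
    show n⁻¹ * g * (s : G) * (n⁻¹ * g)⁻¹ ∈ (P : Subgroup G)
    rw [show n⁻¹ * g * (s : G) * (n⁻¹ * g)⁻¹ = n⁻¹ * (g * s * g⁻¹) * n by group]
    exact (mem_normalizer_iff''.1 (hS.zjN_le_normalizer P hn) _).1
      (hgU _ (hU (mem_sup_left (mem_map_of_mem C.subtype hs))))

/-- `C(T) = O_{p'}(C(T)) (C(T) ∩ K)` for `1 ≠ T ≤ P`. -/
theorem exists_factor_centralizer (P : Sylow p G) {T : Subgroup G} (hT : T ≠ ⊥)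
    (hTP : T ≤ (P : Subgroup G)) {c : G} (hc : c ∈ centralizer (T : Set G)) :
    ∃ o ∈ pp p (centralizer (T : Set G)), ∃ n ∈ centralizer (T : Set G) ⊓ zjN (P : Subgroup G),
      c = o * n := by
  set C := centralizer (T : Set G) with hC
  have hCs : Group.IsSolvable C := hS.solv C (hS.centralizer_set_ne_top hT)
  let SP : Sylow p C := Sylow.ofCard ((P : Subgroup G).subgroupOf C) (hS.sylow_centralizer P hTP)
  set O := Cfsg.pPrimeCore p C with hO
  set f := QuotientGroup.mk' O with hf
  have hfs : Function.Surjective f := QuotientGroup.mk'_surjective O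
  have hcop : (Nat.card O).Coprime p := PSolvable.pPrimeCore_coprime
  set F := Cfsg.pCore p (C ⧸ O) with hF
  have hFc : centralizer (F : Set (C ⧸ O)) ≤ F :=
    PSolvable.centralizer_pCore_le_of_isPSolvable
      (PSolvable.isPSolvable_quotient (PSolvable.isPSolvable_of_isSolvable (p := p)) O)
      PSolvable.pPrimeCore_quotient_eq_bot
  set W := (SP : Subgroup C) ⊓ F.comap f with hW
  have hWF : W.map f = F := by
    refine le_antisymm (map_le_iff_le_comap.2 inf_le_right) fun z hz => ?_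
    obtain ⟨s, hs, rfl⟩ := (PSolvable.pCore_le_sylow (SP.mapSurjective hfs)) hz
    exact ⟨s, ⟨hs, hz⟩, rfl⟩
  have htop : O ⊔ normalizer (W : Set C) = ⊤ := by
    have h1 : normalizer ((W.map f : Subgroup (C ⧸ O)) : Set (C ⧸ O)) = ⊤ := by
      rw [hWF]
      have := PSolvable.pCore_characteristic (p := p) (G := C ⧸ O)
      exact normalizer_eq_top _
    rw [PSolvable.normalizer_map_mk' O hcop (SP.2.to_le inf_le_left)] at h1
    rw [sup_comm, ← QuotientGroup.ker_mk' O, ← hf, ← comap_map_eq, h1, comap_top]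
  obtain ⟨o, ho, n, hn, hcn⟩ := FusionMod.exists_mul_of_top htop (⟨c, hc⟩ : C)
  have hWP : ∀ w ∈ W, (w : G) ∈ (P : Subgroup G) := fun w hw => hw.1
  obtain ⟨m, hm, hmX⟩ := hS.control P (X := (T : Set G) ∪ W.map C.subtype) (by
      rintro x (hx | ⟨w, hw, rfl⟩)
      · exact hTP hx
      · exact hWP w hw) (n : G) (by
      rintro x (hx | ⟨w, hw, rfl⟩)
      · rw [← mem_centralizer_iff.1 n.2 x hx, mul_inv_cancel_right]
        exact hTP hx
      · exact hWP _ ((mem_normalizer_iff.1 hn w).1 hw))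
  have hmC : m ∈ C := mem_centralizer_iff.2 fun t ht => by
    have h1 := hmX t (Or.inl ht)
    rw [← mem_centralizer_iff.1 n.2 t ht, mul_inv_cancel_right, mul_inv_eq_iff_eq_mul] at h1
    exact h1.symm
  set d : C := ⟨m, hmC⟩⁻¹ * n with hd
  have hdW : f d ∈ F := by
    refine hFc (mem_centralizer_iff.2 fun z hz => ?_)
    rw [← hWF] at hz
    obtain ⟨w, hw, rfl⟩ := hz
    rw [← map_mul, ← map_mul]
    refine congrArg f (Subtype.ext ?_)
    have h1 := hmX w (Or.inr ⟨w, hw, rfl⟩)
    show (w : G) * (m⁻¹ * (n : G)) = m⁻¹ * (n : G) * w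
    calc (w : G) * (m⁻¹ * (n : G)) = m⁻¹ * (m * w * m⁻¹) * n := by group
      _ = m⁻¹ * ((n : G) * w * (n : G)⁻¹) * n := by rw [h1]
      _ = m⁻¹ * (n : G) * w := by group
  rw [← hWF] at hdW
  obtain ⟨s, hs, hsd⟩ := hdW
  have ho' : d * s⁻¹ ∈ O := (QuotientGroup.eq_one_iff _).1
    (show f (d * s⁻¹) = 1 by rw [map_mul, map_inv, hsd, mul_inv_cancel])
  refine ⟨(o : G) * (m * ((d * s⁻¹ : C) : G) * m⁻¹),
    mul_mem (mem_map_of_mem _ ho) (conj_mem_pp hmC (mem_map_of_mem _ ho')), m * s,
    ⟨mul_mem hmC s.2, mul_mem hm (le_normalizer.trans (normalizer_le_zjN _) (hWP s hs))⟩, ?_⟩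
  have hce : c = (o : G) * n := congrArg Subtype.val hcn
  rw [hce, hd]
  simp only [Subgroup.coe_mul, Subgroup.coe_inv]
  group

/-- `C(T)` and `C(T) ∩ K` have the same proportion of `p'`-elements. -/
theorem npel_centralizer (P : Sylow p G) {T : Subgroup G} (hT : T ≠ ⊥)
    (hTP : T ≤ (P : Subgroup G)) :
    npel p (centralizer (T : Set G)) *
        Nat.card (centralizer (T : Set G) ⊓ zjN (P : Subgroup G) : Subgroup G) =
      npel p (centralizer (T : Set G) ⊓ zjN (P : Subgroup G)) *
        Nat.card (centralizer (T : Set G)) := by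
  set C := centralizer (T : Set G) with hC
  set CK := C ⊓ zjN (P : Subgroup G) with hCK
  set O := Cfsg.pPrimeCore p C with hO
  set f := QuotientGroup.mk' O with hf
  have hfs : Function.Surjective f := QuotientGroup.mk'_surjective O
  set ψ := f.comp (inclusion (inf_le_left : CK ≤ C)) with hψ
  have hψs : Function.Surjective ψ := by
    intro z
    obtain ⟨c, rfl⟩ := hfs z
    obtain ⟨o, ⟨o', ho', rfl⟩, n, hn, hcn⟩ := hS.exists_factor_centralizer P hT hTP c.2
    refine ⟨⟨n, hn⟩, ?_⟩
    have h1 : c = o' * (⟨n, hn.1⟩ : C) := Subtype.ext hcn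
    show f ⟨n, hn.1⟩ = f c
    rw [h1, map_mul, show f o' = 1 from (QuotientGroup.eq_one_iff o').2 ho', one_mul]
  have hkf : f.ker = O := QuotientGroup.ker_mk' O
  have hk1 : (Nat.card f.ker).Coprime p := by rw [hkf]; exact PSolvable.pPrimeCore_coprime
  have hk2 : (Nat.card ψ.ker).Coprime p := by
    refine hk1.coprime_dvd_left ?_
    rw [hψ, ← MonoidHom.comap_ker]
    exact card_comap_dvd_of_injective _ _ (inclusion_injective _)
  have hc : ∀ {A B : Type u} [Group A] [Group B] (φ : A →* B), Function.Surjective φ →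
      Nat.card A = Nat.card φ.ker * Nat.card B := by
    intro A B _ _ φ hφ
    rw [← Nat.card_congr (QuotientGroup.quotientKerEquivOfSurjective φ hφ).toEquiv,
      Subgroup.card_eq_card_quotient_mul_card_subgroup φ.ker]
    ring
  rw [npel_eq_pnum, npel_eq_pnum, pnum_of_surjective f hfs hk1, pnum_of_surjective ψ hψs hk2,
    hc f hfs, hc ψ hψs]
  ring

end Setting

end Cfsg.Agent.Lib.PrimeAbelian
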