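import Mathlib
import Cfsg.Agent.Lib.PrimeAbelian.Local

/-!
Counting `p'`-elements: `G` and `N(Z(J(P)))` have the same proportion of them.
-/

set_option autoImplicit false

namespace Cfsg.Agent.Lib.PrimeAbelian

open Subgroup Finset
open scoped Pointwise Classical

universe u

variable {G : Type u} [Group G] [Fintype G] {p : ℕ} [hp : Fact p.Prime]

/-- `x` has `p`-power order. -/
def IsPEl (p : ℕ) {G : Type*} [Group G] (x : G) : Prop := ∃ k : ℕ, x ^ p ^ k = 1

/-- Every element is uniquely a commuting product of a `p`-element and a `p'`-element. -/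
theorem card_eq_sum_npel (H : Subgroup G) :
    Nat.card H = ∑ x ∈ univ.filter (fun x : G => x ∈ H ∧ IsPEl p x),
      npel p (H ⊓ centralizer ({x} : Set G)) := by
  set E := (Nat.card G).factorization p with hE
  set m := Nat.card G / p ^ E with hm
  have hn : Nat.card G = p ^ E * m := (Nat.ordProj_mul_ordCompl_eq_self _ p).symm
  have hpm : Nat.Coprime p m := Nat.coprime_ordCompl hp.out Nat.card_pos.ne'
  obtain ⟨N, hN1, hN0⟩ := Nat.chineseRemainder (Nat.Coprime.pow_left E hpm) 1 0
  have hfix : ∀ x : G, IsPEl p x → x ^ N = x := by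
    rintro x ⟨k, hk⟩
    have h1 : orderOf x ∣ p ^ E := by
      refine (Nat.Coprime.coprime_dvd_left (orderOf_dvd_of_pow_eq_one hk)
        (Nat.Coprime.pow_left k hpm)).dvd_of_dvd_mul_right ?_
      rw [← hn]; exact orderOf_dvd_natCard x
    conv_rhs => rw [← pow_one x]
    exact pow_eq_pow_iff_modEq.2 (hN1.of_dvd h1)
  have hkill : ∀ y : G, (orderOf y).Coprime p → y ^ N = 1 := by
    intro y hy
    have h1 : orderOf y ∣ m := by
      refine (Nat.Coprime.pow_right E hy).dvd_of_dvd_mul_left ?_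
      rw [← hn]; exact orderOf_dvd_natCard y
    exact orderOf_dvd_iff_pow_eq_one.1 (h1.trans (Nat.modEq_zero_iff_dvd.1 hN0))
  let T := Σ x : {x : G // x ∈ H ∧ IsPEl p x},
    {y : G // y ∈ H ⊓ centralizer ({x.1} : Set G) ∧ (orderOf y).Coprime p}
  let F : T → H := fun z => ⟨z.1.1 * z.2.1, mul_mem z.1.2.1 z.2.2.1.1⟩
  have hF : Function.Bijective F := by
    constructor
    · rintro ⟨⟨x, hx, hxp⟩, ⟨y, hy, hyc⟩⟩ ⟨⟨x', hx', hxp'⟩, ⟨y', hy', hyc'⟩⟩ he
      have he' : x * y = x' * y' := congrArg Subtype.val he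
      have key : ∀ {x y : G}, IsPEl p x → (orderOf y).Coprime p →
          y ∈ centralizer ({x} : Set G) → (x * y) ^ N = x := fun {a b} ha hb hc => by
        rw [(show Commute a b from (mem_centralizer_singleton_iff.1 hc).symm).mul_pow, hfix a ha,
          hkill b hb, mul_one]
      have hxx : x = x' := by
        rw [← key hxp hyc hy.2, ← key hxp' hyc' hy'.2, he']
      subst hxx
      obtain rfl := mul_left_cancel he'
      rfl
    · rintro ⟨g, hg⟩
      refine ⟨⟨⟨g ^ N, pow_mem hg N, E, ?_⟩, ⟨g * (g ^ N)⁻¹, Subgroup.mem_inf.2 ⟨mul_mem hg (inv_mem (pow_mem hg N)),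
        ?_⟩, ?_⟩⟩, ?_⟩
      · rw [← pow_mul]
        refine orderOf_dvd_iff_pow_eq_one.1 ((orderOf_dvd_natCard g).trans ?_)
        rw [hn, mul_comm]
        exact mul_dvd_mul_right (Nat.modEq_zero_iff_dvd.1 hN0) _
      · rw [mem_centralizer_singleton_iff]
        group
      · refine Nat.Coprime.coprime_dvd_left (orderOf_dvd_of_pow_eq_one (n := m) ?_) hpm.symm
        rw [(((Commute.refl g).pow_right N).inv_right).mul_pow, inv_pow, ← pow_mul, mul_inv_eq_one]
        refine pow_eq_pow_iff_modEq.2 (Nat.ModEq.of_dvd ?_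
          (show N * m ≡ m [MOD p ^ E * m] by simpa using hN1.mul_right' m).symm)
        rw [← hn]; exact orderOf_dvd_natCard g
      · apply Subtype.ext
        show g ^ N * (g * (g ^ N)⁻¹) = g
        group
  rw [← Nat.card_eq_of_bijective F hF, Nat.card_sigma]
  exact (Finset.sum_subtype _ (fun x => by simp)
    (fun x => npel p (H ⊓ centralizer ({x} : Set G)))).symm

omit [Fintype G] hp in
/-- Invariance of `npel` of centralizers. -/
theorem npel_centralizer_conj (g y : G) :
    npel p (centralizer ({g * y * g⁻¹} : Set G)) = npel p (centralizer ({y} : Set G)) := by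
  refine Nat.card_congr ((MulAut.conj g⁻¹).toEquiv.subtypeEquiv fun x => ?_)
  simp only [MulEquiv.toEquiv_eq_coe, MulEquiv.coe_toEquiv, MulAut.conj_apply, inv_inv]
  have ho : orderOf (g⁻¹ * x * g) = orderOf x := by
    have := MulEquiv.orderOf_eq (MulAut.conj g⁻¹) x
    simpa using this
  rw [ho]
  refine and_congr_left fun _ => ?_
  simp only [mem_centralizer_singleton_iff]
  constructor
  · intro h
    calc g⁻¹ * x * g * y = g⁻¹ * (x * (g * y * g⁻¹)) * g := by group
      _ = g⁻¹ * (g * y * g⁻¹ * x) * g := by rw [h]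
      _ = y * (g⁻¹ * x * g) := by group
  · intro h
    calc x * (g * y * g⁻¹) = g * (g⁻¹ * x * g * y) * g⁻¹ := by group
      _ = g * (y * (g⁻¹ * x * g)) * g⁻¹ := by rw [h]
      _ = g * y * g⁻¹ * x := by group

omit [Fintype G] hp in
theorem centralizer_one : centralizer ({(1 : G)} : Set G) = ⊤ :=
  eq_top_iff.2 fun g _ => mem_centralizer_singleton_iff.2 (by simp)

omit [Fintype G] hp in
theorem centralizer_zpowers_eq (y : G) :
    centralizer (zpowers y : Set G) = centralizer ({y} : Set G) := by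
  rw [zpowers_eq_closure, centralizer_closure]

/-- The pairs `(g, y)`, `1 ≠ y ∈ P`, with `g y g⁻¹ = x`. -/
noncomputable def pairs (P : Subgroup G) (x : G) : Finset (G × G) :=
  univ.filter fun z => z.2 ∈ P ∧ z.2 ≠ 1 ∧ z.1 * z.2 * z.1⁻¹ = x

omit hp in
theorem card_pairs_conj (P : Subgroup G) (g y : G) :
    (pairs P (g * y * g⁻¹)).card = (pairs P y).card := by
  refine Finset.card_nbij' (fun z => (g⁻¹ * z.1, z.2)) (fun z => (g * z.1, z.2)) ?_ ?_ ?_ ?_
  · intro z hz
    simp only [pairs, Finset.mem_coe, mem_filter, mem_univ, true_and] at hz ⊢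
    refine ⟨hz.1, hz.2.1, ?_⟩
    calc g⁻¹ * z.1 * z.2 * (g⁻¹ * z.1)⁻¹ = g⁻¹ * (z.1 * z.2 * z.1⁻¹) * g := by group
      _ = y := by rw [hz.2.2]; group
  · intro z hz
    simp only [pairs, Finset.mem_coe, mem_filter, mem_univ, true_and] at hz ⊢
    refine ⟨hz.1, hz.2.1, ?_⟩
    calc g * z.1 * z.2 * (g * z.1)⁻¹ = g * (z.1 * z.2 * z.1⁻¹) * g⁻¹ := by group
      _ = g * y * g⁻¹ := by rw [hz.2.2]
  · intro z _; simp
  · intro z _; simp

namespace Setting

variable (hS : Setting G p)

include hS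

theorem card_pairs (P : Sylow p G) {y : G} (hy : y ∈ (P : Subgroup G)) (hy1 : y ≠ 1) :
    (pairs (P : Subgroup G) y).card *
        Nat.card (centralizer ({y} : Set G) ⊓ zjN (P : Subgroup G) : Subgroup G) =
      Nat.card (centralizer ({y} : Set G)) * Nat.card (zjN (P : Subgroup G)) := by
  set K := zjN (P : Subgroup G) with hK
  set C := centralizer ({y} : Set G) with hC
  have hCc : Nat.card C = (univ.filter fun c : G => c ∈ C).card := by
    rw [Nat.card_eq_fintype_card, Fintype.card_subtype]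
  have hKc : Nat.card K = (univ.filter fun c : G => c ∈ K).card := by
    rw [Nat.card_eq_fintype_card, Fintype.card_subtype]
  set D := (univ.filter fun c : G => c ∈ C) ×ˢ (univ.filter fun c : G => c ∈ K) with hD
  set f : G × G → G × G := fun z => (z.1 * z.2, z.2⁻¹ * y * z.2) with hf
  have hmaps : (D : Set (G × G)).MapsTo f (pairs (P : Subgroup G) y) := by
    rintro ⟨c, n⟩ hz
    simp only [hD, coe_product, Set.mem_prod, Finset.mem_coe, mem_filter, mem_univ, true_and] at hz
    obtain ⟨hc, hn⟩ := hz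
    simp only [pairs, hf, Finset.mem_coe, mem_filter, mem_univ, true_and]
    refine ⟨(mem_normalizer_iff''.1 (hS.zjN_le_normalizer P hn) y).1 hy,
      fun h => hy1 (conj_eq_one_iff.1 (by simpa using h : n⁻¹ * y * n⁻¹⁻¹ = 1)), ?_⟩
    calc c * n * (n⁻¹ * y * n) * (c * n)⁻¹ = c * y * c⁻¹ := by group
      _ = y := by rw [mem_centralizer_singleton_iff.1 hc, mul_inv_cancel_right]
  rw [hCc, hKc, ← card_product, ← hD, card_eq_sum_card_fiberwise hmaps]
  refine (Finset.sum_const_nat fun z hz => ?_).symm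
  obtain ⟨a, b⟩ := z
  simp only [pairs, mem_filter, mem_univ, true_and] at hz
  obtain ⟨hb, -, hab⟩ := hz
  obtain ⟨n0, hn0, hn0b⟩ := hS.control P (X := {b}) (Set.singleton_subset_iff.2 hb) a
    (fun x hx => by rw [Set.mem_singleton_iff.1 hx, hab]; exact hy)
  have hn0y : n0 * b * n0⁻¹ = y := (hn0b b rfl).trans hab
  have hc0 : a * n0⁻¹ ∈ C := mem_centralizer_singleton_iff.2 (by
    rw [← hn0y]
    calc a * n0⁻¹ * (n0 * b * n0⁻¹) = a * b * a⁻¹ * (a * n0⁻¹) := by group
      _ = n0 * b * n0⁻¹ * (a * n0⁻¹) := by rw [hab, hn0y])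
  rw [Nat.card_eq_fintype_card, Fintype.card_subtype]
  refine Finset.card_nbij' (fun z => z.2 * n0⁻¹) (fun w => (a * n0⁻¹ * w⁻¹, w * n0)) ?_ ?_ ?_ ?_
  · rintro ⟨c, n⟩ hz
    simp only [hD, hf, Finset.mem_coe, mem_filter, mem_product, mem_univ, true_and, Prod.mk.injEq]
      at hz ⊢
    obtain ⟨⟨hc, hn⟩, hcn, hny⟩ := hz
    refine Subgroup.mem_inf.2 ⟨mem_centralizer_singleton_iff.2 ?_, mul_mem hn (inv_mem hn0)⟩
    calc n * n0⁻¹ * y = n * (n0⁻¹ * y * n0) * n0⁻¹ := by group
      _ = n * b * n0⁻¹ := by rw [← hn0y]; group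
      _ = n * (n⁻¹ * y * n) * n0⁻¹ := by rw [hny]
      _ = y * (n * n0⁻¹) := by group
  · intro w hw
    simp only [hD, hf, Finset.mem_coe, mem_filter, mem_product, mem_univ, true_and, Prod.mk.injEq]
      at hw ⊢
    obtain ⟨hwC, hwK⟩ := hw
    refine ⟨⟨mul_mem hc0 (inv_mem hwC), mul_mem hwK hn0⟩, by group, ?_⟩
    have h := mem_centralizer_singleton_iff.1 hwC
    calc (w * n0)⁻¹ * y * (w * n0) = n0⁻¹ * (w⁻¹ * (y * w)) * n0 := by group
      _ = n0⁻¹ * (w⁻¹ * (w * y)) * n0 := by rw [h]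
      _ = b := by rw [← hn0y]; group
  · rintro ⟨c, n⟩ hz
    simp only [hD, hf, Finset.mem_coe, mem_filter, mem_product, mem_univ, true_and, Prod.mk.injEq]
      at hz
    obtain ⟨-, hcn, -⟩ := hz
    simp only [Prod.mk.injEq]
    refine ⟨?_, by group⟩
    rw [← hcn]
    group
  · intro w _
    simp

/-- `G` and `K` have the same proportion of `p'`-elements. -/
theorem npel_mul_eq (P : Sylow p G) :
    npel p (⊤ : Subgroup G) * Nat.card (zjN (P : Subgroup G)) =
      npel p (zjN (P : Subgroup G)) * Nat.card G := by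
  set K := zjN (P : Subgroup G) with hK
  have hPK : (P : Subgroup G) ≤ K := le_normalizer.trans (normalizer_le_zjN _)
  set S1 := univ.filter (fun x : G => IsPEl p x ∧ x ≠ 1) with hS1
  set P1 := univ.filter (fun y : G => y ∈ (P : Subgroup G) ∧ y ≠ 1) with hP1
  set F : G → ℚ := fun x => (npel p (centralizer ({x} : Set G)) : ℚ) with hF
  have hK1 : univ.filter (fun x : G => x ∈ K ∧ IsPEl p x) = insert 1 P1 := by
    ext x
    simp only [hP1, mem_filter, mem_univ, true_and, Finset.mem_insert]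
    constructor
    · rintro ⟨hxK, k, hk⟩
      by_cases hx1 : x = 1
      · exact Or.inl hx1
      refine Or.inr ⟨?_, hx1⟩
      have hX : IsPGroup p (zpowers x) := IsPGroup.of_card_dvd_pow (n := k) (by
        rw [Nat.card_zpowers]; exact orderOf_dvd_of_pow_eq_one hk)
      have h := P.3 (hX.to_sup_of_normal_right' P.2
        ((zpowers_le.2 hxK).trans (hS.zjN_le_normalizer P))) le_sup_right
      exact h.le (mem_sup_left (mem_zpowers x))
    · rintro (rfl | ⟨hx, -⟩)
      · exact ⟨one_mem _, 0, one_pow _⟩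
      · refine ⟨hPK hx, ?_⟩
        obtain ⟨k, hk⟩ := P.2 ⟨x, hx⟩
        exact ⟨k, by simpa using congrArg Subtype.val hk⟩
  have hG1 : univ.filter (fun x : G => x ∈ (⊤ : Subgroup G) ∧ IsPEl p x) = insert 1 S1 := by
    ext x
    simp only [hS1, mem_filter, mem_univ, true_and, Finset.mem_insert, mem_top]
    constructor
    · intro h
      by_cases hx1 : x = 1
      · exact Or.inl hx1
      · exact Or.inr ⟨h, hx1⟩
    · rintro (rfl | ⟨h, -⟩)
      · exact ⟨0, one_pow _⟩
      · exact h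
  have hG : (Nat.card G : ℚ) = npel p (⊤ : Subgroup G) + ∑ x ∈ S1, F x := by
    have h := card_eq_sum_npel (p := p) (⊤ : Subgroup G)
    rw [hG1, Finset.sum_insert (by simp [hS1]), centralizer_one, Subgroup.card_top] at h
    simp only [top_inf_eq] at h
    rw [h]
    push_cast
    rfl
  have hKs : (Nat.card K : ℚ) = npel p K +
      ∑ y ∈ P1, (npel p (centralizer ({y} : Set G) ⊓ K) : ℚ) := by
    have h := card_eq_sum_npel (p := p) K
    rw [hK1, Finset.sum_insert (by simp [hP1]), centralizer_one, inf_top_eq] at h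
    rw [h]
    push_cast
    simp only [inf_comm (a := K)]
  set π := (univ : Finset G) ×ˢ P1 with hπ
  set e : G × G → G := fun z => z.1 * z.2 * z.1⁻¹ with he
  set cnt : G → ℚ := fun x => ((pairs (P : Subgroup G) x).card : ℚ) with hcnt
  have hfib : ∀ x, π.filter (fun z => e z = x) = pairs (P : Subgroup G) x := by
    intro x
    ext z
    simp [hπ, hP1, he, pairs, and_assoc]
  have hmaps : ∀ z ∈ π, e z ∈ S1 := by
    rintro ⟨g, y⟩ hz
    simp only [hπ, hP1, mem_product, mem_filter, mem_univ, true_and] at hz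
    simp only [hS1, he, mem_filter, mem_univ, true_and]
    obtain ⟨k, hk⟩ := P.2 ⟨y, hz.1⟩
    refine ⟨⟨k, ?_⟩, fun h => hz.2 (conj_eq_one_iff.1 h)⟩
    rw [conj_pow, show y ^ p ^ k = 1 by simpa using congrArg Subtype.val hk, mul_one, mul_inv_cancel]
  have hsum1 : ∑ z ∈ π, F (e z) / cnt (e z) = ∑ x ∈ S1, F x := by
    rw [← Finset.sum_fiberwise_of_maps_to hmaps]
    refine Finset.sum_congr rfl fun x hx => ?_
    rw [Finset.sum_congr rfl (fun z hz => by rw [(mem_filter.1 hz).2] : ∀ z ∈ π.filter (fun z => e z = x),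
      F (e z) / cnt (e z) = F x / cnt x), Finset.sum_const, hfib, nsmul_eq_mul]
    simp only [hS1, mem_filter, mem_univ, true_and] at hx
    obtain ⟨⟨k, hk⟩, hx1⟩ := hx
    have hpos : cnt x ≠ 0 := by
      have hX : IsPGroup p (zpowers x) := IsPGroup.of_card_dvd_pow (n := k) (by
        rw [Nat.card_zpowers]; exact orderOf_dvd_of_pow_eq_one hk)
      obtain ⟨U, hU⟩ := hX.exists_le_sylow
      obtain ⟨g, hg⟩ := MulAction.exists_smul_eq G U P
      have hmem : g * x * g⁻¹ ∈ (P : Subgroup G) := by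
        rw [← hg, Sylow.coe_subgroup_smul]
        exact smul_mem_pointwise_smul x (MulAut.conj g) _ (hU (mem_zpowers x))
      have : (g⁻¹, g * x * g⁻¹) ∈ pairs (P : Subgroup G) x := by
        simp only [pairs, mem_filter, mem_univ, true_and]
        exact ⟨hmem, fun h => hx1 (conj_eq_one_iff.1 h), by group⟩
      simp only [hcnt, Nat.cast_ne_zero, ne_eq, Finset.card_eq_zero]
      exact Finset.ne_empty_of_mem this
    simp only [hcnt] at hpos ⊢
    field_simp
  have hKpos : (Nat.card K : ℚ) ≠ 0 := Nat.cast_ne_zero.2 Nat.card_pos.ne'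
  have hval : ∀ z ∈ π, F (e z) / cnt (e z) =
      (npel p (centralizer ({z.2} : Set G) ⊓ K) : ℚ) / Nat.card K := by
    rintro ⟨g, y⟩ hz
    simp only [hπ, hP1, mem_product, mem_filter, mem_univ, true_and] at hz
    simp only [hF, hcnt, he, npel_centralizer_conj, card_pairs_conj]
    have h1 := hS.card_pairs P hz.1 hz.2
    have h2 := hS.npel_centralizer P (T := zpowers y) (zpowers_ne_bot.2 hz.2)
      (zpowers_le.2 hz.1)
    rw [centralizer_zpowers_eq] at h2
    rw [← hK] at h1 h2
    have hc : (Nat.card (centralizer ({y} : Set G) ⊓ K : Subgroup G) : ℚ) ≠ 0 :=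
      Nat.cast_ne_zero.2 Nat.card_pos.ne'
    have hC : (Nat.card (centralizer ({y} : Set G)) : ℚ) ≠ 0 :=
      Nat.cast_ne_zero.2 Nat.card_pos.ne'
    have h1' := congrArg (Nat.cast : ℕ → ℚ) h1
    have h2' := congrArg (Nat.cast : ℕ → ℚ) h2
    push_cast at h1' h2'
    have hpne : ((pairs (P : Subgroup G) y).card : ℚ) ≠ 0 := by
      intro h
      rw [h, zero_mul] at h1'
      exact mul_ne_zero hC hKpos h1'.symm
    rw [div_eq_div_iff hpne hKpos]
    apply mul_left_cancel₀ hc
    linear_combination (Nat.card K : ℚ) * h2' -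
      (npel p (centralizer ({y} : Set G) ⊓ K) : ℚ) * h1'
  rw [Finset.sum_congr rfl hval, hπ, Finset.sum_product] at hsum1
  simp only [Finset.sum_const, Finset.card_univ, ← Nat.card_eq_fintype_card, nsmul_eq_mul,
    ← Finset.sum_div] at hsum1
  have hgoal : (npel p (⊤ : Subgroup G) : ℚ) * Nat.card K = npel p K * Nat.card G := by
    field_simp at hsum1
    linear_combination (Nat.card G : ℚ) * hKs - (Nat.card K : ℚ) * hG + hsum1
  exact_mod_cast hgoal

end Setting

end Cfsg.Agent.Lib.PrimeAbelian
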