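import Mathlib
import Cfsg.Agent.Lib.PrimeAbelian.Count
import Cfsg.Agent.Lib.Burnside.Paqb

/-!
The contradiction: groups whose `p'`-subgroups are abelian of exponent dividing `p - 1` are
solvable.
-/

set_option autoImplicit false

namespace Cfsg.Agent.Lib.PrimeAbelian

open Subgroup Finset
open scoped Pointwise Classical commutatorElement

universe u

section

variable {G : Type u} [Group G] [Fintype G] {p q : ℕ} [hp : Fact p.Prime] [hq : Fact q.Prime]

/-- The nontrivial `p'`-elements of `X`. -/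
noncomputable def pset (p : ℕ) (X : Subgroup G) : Finset G :=
  univ.filter fun x => x ∈ X ∧ (orderOf x).Coprime p ∧ x ≠ 1

omit hp hq in
theorem npel_eq_card_pset (X : Subgroup G) : npel p X = (pset p X).card + 1 := by
  rw [npel, Nat.card_eq_fintype_card, Fintype.card_subtype,
    ← Finset.card_insert_of_notMem (show (1 : G) ∉ pset p X by simp [pset])]
  congr 1
  ext x
  simp only [pset, mem_filter, mem_univ, true_and, Finset.mem_insert]
  constructor
  · intro h
    by_cases h1 : x = 1
    · exact Or.inl h1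
    · exact Or.inr ⟨h.1, h.2, h1⟩
  · rintro (rfl | h)
    · exact ⟨one_mem X, by simp⟩
    · exact ⟨h.1, h.2.1⟩

/-- The conjugates of the nontrivial elements of `O_{p'}(M)`. -/
noncomputable def conjSet (p : ℕ) (M : Subgroup G) : Finset G :=
  ((univ : Finset G) ×ˢ univ.filter fun y => y ∈ pp p M ∧ y ≠ 1).image
    fun z => z.1 * z.2 * z.1⁻¹

namespace Seed

variable {M : Subgroup G} (hM : Seed p q M) (hS : Setting G p)

include hM hS

theorem card_conjSet :
    (conjSet p M).card * Nat.card M + Nat.card G = Nat.card G * Nat.card (pp p M) := by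
  set Y := univ.filter fun y : G => y ∈ pp p M ∧ y ≠ 1 with hY
  have hYc : Y.card + 1 = Nat.card (pp p M) := by
    rw [Nat.card_eq_fintype_card, Fintype.card_subtype,
      ← Finset.card_insert_of_notMem (show (1 : G) ∉ Y by simp [hY])]
    congr 1
    ext x
    simp only [hY, mem_filter, mem_univ, true_and, Finset.mem_insert]
    by_cases h1 : x = 1 <;> simp [h1]
  have hkey : ((univ : Finset G) ×ˢ Y).card = (conjSet p M).card * Nat.card M := by
    rw [card_eq_sum_card_image (fun z : G × G => z.1 * z.2 * z.1⁻¹)]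
    refine Finset.sum_const_nat fun x hx => ?_
    obtain ⟨⟨g0, y0⟩, hz, rfl⟩ := Finset.mem_image.1 hx
    simp only [hY, mem_product, mem_filter, mem_univ, true_and] at hz
    rw [Nat.card_eq_fintype_card, Fintype.card_subtype]
    refine Finset.card_nbij' (fun z => g0⁻¹ * z.1) (fun m => (g0 * m, m⁻¹ * y0 * m)) ?_ ?_ ?_ ?_
    · rintro ⟨g, y⟩ hgy
      simp only [hY, Finset.mem_coe, mem_filter, mem_product, mem_univ, true_and] at hgy ⊢
      refine hM.mem_of_conj_mem_pp hS hgy.1.1 hgy.1.2 ?_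
      rw [show g0⁻¹ * g * y * (g0⁻¹ * g)⁻¹ = g0⁻¹ * (g * y * g⁻¹) * g0 by group, hgy.2,
        show g0⁻¹ * (g0 * y0 * g0⁻¹) * g0 = y0 by group]
      exact hz.1
    · intro m hm
      simp only [hY, Finset.mem_coe, mem_filter, mem_product, mem_univ, true_and] at hm ⊢
      refine ⟨⟨by simpa using conj_mem_pp (inv_mem hm) hz.1, fun h => hz.2 ?_⟩, by group⟩
      exact conj_eq_one_iff.1 (by simpa using h : m⁻¹ * y0 * m⁻¹⁻¹ = 1)
    · rintro ⟨g, y⟩ hgy
      simp only [hY, Finset.mem_coe, mem_filter, mem_product, mem_univ, true_and] at hgy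
      refine Prod.ext (by simp) ?_
      show (g0⁻¹ * g)⁻¹ * y0 * (g0⁻¹ * g) = y
      calc (g0⁻¹ * g)⁻¹ * y0 * (g0⁻¹ * g) = g⁻¹ * (g0 * y0 * g0⁻¹) * g := by group
        _ = g⁻¹ * (g * y * g⁻¹) * g := by rw [hgy.2]
        _ = y := by group
    · intro m _
      simp
  rw [← hkey, card_product, Finset.card_univ, ← Nat.card_eq_fintype_card, ← hYc]
  ring

omit hM hS in
theorem conjSet_subset : conjSet p M ⊆ pset p (⊤ : Subgroup G) := by
  intro x hx
  obtain ⟨⟨g, y⟩, hz, rfl⟩ := Finset.mem_image.1 hx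
  simp only [mem_product, mem_filter, mem_univ, true_and] at hz
  simp only [pset, mem_filter, mem_univ, true_and, mem_top]
  refine ⟨?_, fun h => hz.2 (conj_eq_one_iff.1 h)⟩
  rw [← MulAut.conj_apply, MulEquiv.orderOf_eq]
  exact (pp_coprime M).coprime_dvd_left (orderOf_dvd_natCard _ hz.1)

/-- `p |O_{p'}(M)| ≤ |M|`. -/
theorem mul_card_pp_le : p * Nat.card (pp p M) ≤ Nat.card M := by
  obtain ⟨k, hk⟩ := hM.exists_card_eq hS
  have h1 := hM.p_dvd hS
  rw [hk] at h1 ⊢
  have hk0 : k ≠ 0 := by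
    rintro rfl
    rw [pow_zero, mul_one] at h1
    exact hp.out.one_lt.ne' (Nat.eq_one_of_dvd_coprimes (pp_coprime M) h1 dvd_rfl)
  rw [mul_comm]
  exact Nat.mul_le_mul le_rfl (Nat.le_self_pow hk0 p)

theorem p_mul_card_conjSet_le : p * (conjSet p M).card ≤ Nat.card G := by
  have h := hM.card_conjSet hS
  have h2 := Nat.mul_le_mul_left (conjSet p M).card (hM.mul_card_pp_le hS)
  have h3 : 0 < Nat.card (pp p M) := Nat.card_pos
  refine Nat.le_of_mul_le_mul_right ?_ h3
  calc p * (conjSet p M).card * Nat.card (pp p M)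
      = (conjSet p M).card * (p * Nat.card (pp p M)) := by ring
    _ ≤ (conjSet p M).card * Nat.card M := h2
    _ ≤ Nat.card G * Nat.card (pp p M) := by omega

end Seed

theorem Setting.card_pset_le (hS : Setting G p) :
    ∃ n : ℕ, 2 ^ n ≤ p - 1 ∧ p * (pset p (⊤ : Subgroup G)).card ≤ n * Nat.card G := by
  set I := (p - 1).primeFactors.filter (fun r => r ∣ Nat.card G) with hI
  have hI' : ∀ r ∈ I, r.Prime ∧ r ≠ p ∧ r ∣ Nat.card G := by
    intro r hr
    simp only [hI, mem_filter, Nat.mem_primeFactors] at hr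
    refine ⟨hr.1.1, fun h => ?_, hr.2⟩
    have := Nat.le_of_dvd (Nat.pos_of_ne_zero hr.1.2.2) hr.1.2.1
    have := hS.five
    omega
  have hex : ∀ r : ℕ, ∃ M : Subgroup G, r ∈ I → Seed p r M := by
    intro r
    by_cases hr : r ∈ I
    · obtain ⟨h1, h2, h3⟩ := hI' r hr
      have : Fact r.Prime := ⟨h1⟩
      obtain ⟨M, hM⟩ := hS.exists_seed h2 h3
      exact ⟨M, fun _ => hM⟩
    · exact ⟨⊥, fun h => absurd h hr⟩
  choose Mf hMf using hex
  refine ⟨I.card, ?_, ?_⟩
  · have h5 := hS.five
    calc 2 ^ I.card ≤ ∏ r ∈ I, r := by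
          rw [← Finset.prod_const]
          exact Finset.prod_le_prod' fun r hr => (hI' r hr).1.two_le
      _ ≤ ∏ r ∈ (p - 1).primeFactors, r := by
          refine Finset.prod_le_prod_of_subset_of_one_le' (Finset.filter_subset _ _) fun r hr _ => ?_
          exact (Nat.prime_of_mem_primeFactors hr).one_lt.le
      _ ≤ p - 1 := Nat.le_of_dvd (by omega) (Nat.prod_primeFactors_dvd _)
  have hsub : pset p (⊤ : Subgroup G) ⊆ I.biUnion fun r => conjSet p (Mf r) := by
    intro x hx
    simp only [pset, mem_filter, mem_univ, true_and, mem_top] at hx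
    obtain ⟨hxc, hx1⟩ := hx
    obtain ⟨r, hr, hrx⟩ := Nat.exists_prime_and_dvd (n := orderOf x)
      fun h => hx1 (orderOf_eq_one_iff.1 h)
    have : Fact r.Prime := ⟨hr⟩
    have hrp : r ≠ p := fun h => hr.one_lt.ne' (Nat.eq_one_of_dvd_coprimes hxc hrx (h ▸ dvd_rfl))
    have hrG : r ∣ Nat.card G := hrx.trans (orderOf_dvd_natCard x)
    have h5 := hS.five
    have hrI : r ∈ I := by
      simp only [hI, mem_filter, Nat.mem_primeFactors]
      exact ⟨⟨hr, hS.prime_dvd_sub_one hrG hrp, by omega⟩, hrG⟩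
    have hM := hMf r hrI
    set y := x ^ (orderOf x / r) with hy
    have hyo : orderOf y = r :=
      orderOf_pow_orderOf_div (orderOf_pos x).ne' hrx
    obtain ⟨g, hg⟩ := hS.exists_conj_le_pp hM
      (isPGroup_zpowers_of_pow (x := y) (hyo ▸ pow_orderOf_eq_one y))
    have hgy := hg y (mem_zpowers y)
    have hy1 : g * y * g⁻¹ ≠ 1 := fun h => hr.one_lt.ne' (by
      rw [← hyo, conj_eq_one_iff.1 h, orderOf_one])
    have hgxM : g * x * g⁻¹ ∈ Mf r :=
      hM.centralizer_le_of_mem_pp hS hgy hy1 (conj_centralizer_mem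
        (mem_centralizer_singleton_iff.2 ((Commute.refl x).pow_right _).eq))
    have hgx : g * x * g⁻¹ ∈ pp p (Mf r) := hM.mem_pp hS hgxM (by
      rw [← MulAut.conj_apply, MulEquiv.orderOf_eq]; exact hxc)
    refine Finset.mem_biUnion.2 ⟨r, hrI, Finset.mem_image.2 ⟨(g⁻¹, g * x * g⁻¹), ?_, ?_⟩⟩
    · simp only [mem_product, mem_filter, mem_univ, true_and]
      exact ⟨hgx, fun h => hx1 (conj_eq_one_iff.1 h)⟩
    · show g⁻¹ * (g * x * g⁻¹) * g⁻¹⁻¹ = x
      group
  calc p * (pset p (⊤ : Subgroup G)).card ≤ p * (I.biUnion fun r => conjSet p (Mf r)).card :=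
        Nat.mul_le_mul_left p (Finset.card_le_card hsub)
    _ ≤ p * ∑ r ∈ I, (conjSet p (Mf r)).card := Nat.mul_le_mul_left p Finset.card_biUnion_le
    _ = ∑ r ∈ I, p * (conjSet p (Mf r)).card := Finset.mul_sum _ _ _
    _ ≤ I.card * Nat.card G := by
        refine (Finset.sum_le_card_nsmul I _ (Nat.card G) fun r hr => ?_).trans (by simp)
        have : Fact r.Prime := ⟨(hI' r hr).1⟩
        exact (hMf r hr).p_mul_card_conjSet_le hS

namespace Frame

variable (F : Frame G p) (hS : Setting G p)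

include hS

theorem L_coprime : (Nat.card F.L).Coprime p :=
  (pp_coprime F.M).coprime_dvd_left (card_dvd_of_le F.L_le_pp)

theorem mem_M_iff {x h : G} (hx : x ∈ (F.P : Subgroup G)) (hh : h ∈ F.L) (hh1 : h ≠ 1) :
    x ∈ F.M ↔ h * x = x * h := by
  have : Fact F.q.Prime := ⟨F.q_prime⟩
  constructor
  · intro hxM
    have h1 : x * h * x⁻¹ * h⁻¹ ∈ pp p F.M :=
      mul_mem (conj_mem_pp hxM (F.L_le_pp hh)) (inv_mem (F.L_le_pp hh))
    have h2 : x * h * x⁻¹ * h⁻¹ ∈ (F.P : Subgroup G) := by
      have := mul_mem hx ((mem_normalizer_iff.1 (hS.zjN_le_normalizer F.P (F.L_le hh)) x⁻¹).1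
        (inv_mem hx))
      simpa [mul_assoc] using this
    have h3 := PSolvable.inf_eq_bot_of_isPGroup_of_coprime F.P.2 (pp_coprime F.M)
    have h4 : x * h * x⁻¹ * h⁻¹ ∈ (F.P : Subgroup G) ⊓ pp p F.M := ⟨h2, h1⟩
    rw [h3, mem_bot, mul_inv_eq_one, mul_inv_eq_iff_eq_mul] at h4
    exact h4.symm
  · intro hc
    exact F.seed.centralizer_le_of_mem_pp hS (F.L_le_pp hh) hh1
      (mem_centralizer_singleton_iff.2 hc.symm)

theorem T_ne : ¬ (F.P : Subgroup G) ≤ F.M := by
  intro hle
  obtain ⟨h, hh, hh1⟩ : ∃ h ∈ F.L, h ≠ 1 := by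
    by_contra hcon
    push Not at hcon
    have := F.one_lt
    rw [(eq_bot_iff_forall F.L).2 hcon, card_bot] at this
    omega
  exact hh1 (hS.eq_one_of_centralizes F.P F.L_le (F.L_coprime hS) F.gen hh
    fun x hx => (F.mem_M_iff hS hx hh hh1).1 (hle hx))

theorem p_mul_T_le :
    p * Nat.card ((F.P : Subgroup G) ⊓ F.M : Subgroup G) ≤ Nat.card (F.P : Subgroup G) := by
  obtain ⟨a, ha⟩ := IsPGroup.iff_card.1 (F.P.2.to_le inf_le_left : IsPGroup p
    ((F.P : Subgroup G) ⊓ F.M : Subgroup G))
  obtain ⟨b, hb⟩ := IsPGroup.iff_card.1 F.P.2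
  have hlt : Nat.card ((F.P : Subgroup G) ⊓ F.M : Subgroup G) < Nat.card (F.P : Subgroup G) := by
    refine lt_of_le_of_ne (card_le_of_le inf_le_left) fun he => F.T_ne hS ?_
    exact (eq_of_le_of_card_ge inf_le_left he.ge).ge.trans inf_le_right
  rw [ha, hb] at hlt ⊢
  have hab : a < b := (Nat.pow_lt_pow_iff_right hp.out.one_lt).1 hlt
  rw [← pow_succ']
  exact Nat.pow_le_pow_right hp.out.pos hab

theorem pset_card :
    (pset p (zjN (F.P : Subgroup G))).card * Nat.card ((F.P : Subgroup G) ⊓ F.M : Subgroup G) +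
      Nat.card (F.P : Subgroup G) = Nat.card (F.P : Subgroup G) * Nat.card F.L := by
  set K := zjN (F.P : Subgroup G) with hK
  have hPK : (F.P : Subgroup G) ≤ K := le_normalizer.trans (normalizer_le_zjN _)
  have hLn : F.L ≤ normalizer ((F.P : Subgroup G) : Set G) :=
    F.L_le.trans (hS.zjN_le_normalizer F.P)
  set Ps := univ.filter fun x : G => x ∈ (F.P : Subgroup G) with hPs
  set Ls := univ.filter fun h : G => h ∈ F.L ∧ h ≠ 1 with hLs
  have hLc : Ls.card + 1 = Nat.card F.L := by
    rw [Nat.card_eq_fintype_card, Fintype.card_subtype,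
      ← Finset.card_insert_of_notMem (show (1 : G) ∉ Ls by simp [hLs])]
    congr 1
    ext x
    simp only [hLs, mem_filter, mem_univ, true_and, Finset.mem_insert]
    by_cases h1 : x = 1 <;> simp [h1]
  have himg : pset p K = (Ps ×ˢ Ls).image fun z => z.1 * z.2 * z.1⁻¹ := by
    ext g
    simp only [pset, hPs, hLs, mem_filter, mem_univ, true_and, Finset.mem_image, mem_product]
    constructor
    · rintro ⟨hgK, hgc, hg1⟩
      have hKne := hS.zjN_ne_top F.P.2 (hS.sylow_p_ne_bot F.P)
      have hKs := hS.solv K hKne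
      obtain ⟨L2, hL2K, hgL2, hL2c, k, hk⟩ := exists_hall_ge (p := p) hKs (zpowers_le.2 hgK)
        (by rw [Nat.card_zpowers]; exact hgc)
      obtain ⟨e, he⟩ := IsPGroup.iff_card.1 F.P.2
      have hkk := F.card_eq
      rw [← hK, hk, he] at hkk
      have hcL : Nat.card L2 = Nat.card F.L := by
        apply Nat.dvd_antisymm
        · exact (Nat.Coprime.pow_right e hL2c).dvd_of_dvd_mul_right (hkk ▸ dvd_mul_right _ _)
        · exact (Nat.Coprime.pow_right k (F.L_coprime hS)).dvd_of_dvd_mul_right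
            (hkk ▸ dvd_mul_right _ _)
      have hck : Nat.card K = Nat.card F.L * p ^ e := by rw [hK, F.card_eq, he]
      obtain ⟨k0, hk0⟩ := Hall.conj_of_card_eq (G := K) hck
        (Nat.Coprime.pow_right e (F.L_coprime hS))
        (H := F.L.subgroupOf K) (K := L2.subgroupOf K)
        (Nat.card_congr (subgroupOfEquivOfLe F.L_le).toEquiv)
        ((Nat.card_congr (subgroupOfEquivOfLe hL2K).toEquiv).trans hcL)
      have hmem : (⟨g, hgK⟩ : K) ∈ MulAut.conj k0 • F.L.subgroupOf K := by
        rw [hk0, mem_subgroupOf]; exact hgL2 (mem_zpowers g)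
      obtain ⟨h, hh, hhg⟩ := hmem
      have hhg' : (k0 : G) * h * (k0 : G)⁻¹ = g := congrArg Subtype.val hhg
      have hk0' : (k0 : G) ∈ ((F.L ⊔ (F.P : Subgroup G) : Subgroup G) : Set G) := by
        rw [sup_comm]; exact F.gen k0.2
      rw [coe_mul_of_left_le_normalizer_right _ _ hLn] at hk0'
      obtain ⟨l, hl, x, hx, hlx⟩ := hk0'
      have hc : l * (h : G) = h * l := hS.comm_of_coprime (F.L_coprime hS) hl hh
      refine ⟨(l * x * l⁻¹, h), ⟨(mem_normalizer_iff.1 (hLn hl) x).1 hx, hh, fun h1 => hg1 ?_⟩, ?_⟩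
      · rw [← hhg', show ((h : K) : G) = 1 from h1, mul_one, mul_inv_cancel]
      · show l * x * l⁻¹ * h * (l * x * l⁻¹)⁻¹ = g
        rw [← hhg', ← hlx]
        calc l * x * l⁻¹ * h * (l * x * l⁻¹)⁻¹ = l * x * l⁻¹ * (h * l) * x⁻¹ * l⁻¹ := by group
          _ = l * x * l⁻¹ * (l * h) * x⁻¹ * l⁻¹ := by rw [hc]
          _ = l * x * h * (l * x)⁻¹ := by group
    · rintro ⟨⟨x, h⟩, ⟨hx, hh, hh1⟩, rfl⟩
      refine ⟨mul_mem (mul_mem (hPK hx) (F.L_le hh)) (inv_mem (hPK hx)), ?_,
        fun h1 => hh1 (conj_eq_one_iff.1 h1)⟩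
      rw [← MulAut.conj_apply, MulEquiv.orderOf_eq]
      exact (F.L_coprime hS).coprime_dvd_left (orderOf_dvd_natCard _ hh)
  have hfib : ∀ g ∈ (Ps ×ˢ Ls).image (fun z => z.1 * z.2 * z.1⁻¹),
      ((Ps ×ˢ Ls).filter fun z => z.1 * z.2 * z.1⁻¹ = g).card =
        Nat.card ((F.P : Subgroup G) ⊓ F.M : Subgroup G) := by
    intro g hg
    obtain ⟨⟨x0, h0⟩, hz, rfl⟩ := Finset.mem_image.1 hg
    simp only [hPs, hLs, mem_product, mem_filter, mem_univ, true_and] at hz
    obtain ⟨hx0, hh0, hh01⟩ := hz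
    rw [Nat.card_eq_fintype_card, Fintype.card_subtype]
    have key : ∀ x h : G, x ∈ (F.P : Subgroup G) → h ∈ F.L → x * h * x⁻¹ = x0 * h0 * x0⁻¹ →
        h = h0 ∧ h0 * (x0⁻¹ * x) = x0⁻¹ * x * h0 := by
      intro x h hx hh he
      set w := x0⁻¹ * x with hw
      have hwP : w ∈ (F.P : Subgroup G) := mul_mem (inv_mem hx0) hx
      have hwh : w * h * w⁻¹ = h0 := by
        calc w * h * w⁻¹ = x0⁻¹ * (x * h * x⁻¹) * x0 := by rw [hw]; group
          _ = h0 := by rw [he]; group
      have h1 : h0 * h⁻¹ ∈ (F.P : Subgroup G) := by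
        rw [← hwh]
        have := mul_mem hwP ((mem_normalizer_iff.1 (hLn hh) w⁻¹).1 (inv_mem hwP))
        simpa [mul_assoc] using this
      have h2 := PSolvable.inf_eq_bot_of_isPGroup_of_coprime F.P.2 (F.L_coprime hS)
      have h3 : h0 * h⁻¹ ∈ (F.P : Subgroup G) ⊓ F.L :=
        Subgroup.mem_inf.2 ⟨h1, mul_mem hh0 (inv_mem hh)⟩
      rw [h2, mem_bot, mul_inv_eq_one] at h3
      refine ⟨h3.symm, ?_⟩
      subst h3
      exact (mul_inv_eq_iff_eq_mul.1 hwh).symm
    refine Finset.card_nbij' (fun z => x0⁻¹ * z.1) (fun w => (x0 * w, h0)) ?_ ?_ ?_ ?_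
    · rintro ⟨x, h⟩ hxh
      simp only [hPs, hLs, Finset.mem_coe, mem_filter, mem_product, mem_univ, true_and] at hxh ⊢
      have hk := (key x h hxh.1.1 hxh.1.2.1 hxh.2).2
      exact Subgroup.mem_inf.2 ⟨mul_mem (inv_mem hx0) hxh.1.1,
        (F.mem_M_iff hS (mul_mem (inv_mem hx0) hxh.1.1) hh0 hh01).2 hk⟩
    · intro w hw
      simp only [hPs, hLs, Finset.mem_coe, mem_filter, mem_product, mem_univ, true_and] at hw ⊢
      obtain ⟨hwP, hwM⟩ := hw
      refine ⟨⟨mul_mem hx0 hwP, hh0, hh01⟩, ?_⟩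
      have hc := (F.mem_M_iff hS hwP hh0 hh01).1 hwM
      calc x0 * w * h0 * (x0 * w)⁻¹ = x0 * (w * h0) * w⁻¹ * x0⁻¹ := by group
        _ = x0 * (h0 * w) * w⁻¹ * x0⁻¹ := by rw [hc]
        _ = x0 * h0 * x0⁻¹ := by group
    · rintro ⟨x, h⟩ hxh
      simp only [hPs, hLs, Finset.mem_coe, mem_filter, mem_product, mem_univ, true_and] at hxh
      simp [(key x h hxh.1.1 hxh.1.2.1 hxh.2).1]
    · intro w _
      simp
  have h1 : (Ps ×ˢ Ls).card =
      (pset p K).card * Nat.card ((F.P : Subgroup G) ⊓ F.M : Subgroup G) := by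
    rw [himg, card_eq_sum_card_image (fun z : G × G => z.1 * z.2 * z.1⁻¹)]
    exact Finset.sum_const_nat hfib
  have hPc : Ps.card = Nat.card (F.P : Subgroup G) := by
    rw [Nat.card_eq_fintype_card, Fintype.card_subtype]
  rw [← h1, card_product, hPc, ← hLc]
  ring

/-- When `T = P ∩ M` is nontrivial it is a Sylow subgroup of `M`. -/
theorem card_M (hT : (F.P : Subgroup G) ⊓ F.M ≠ ⊥) :
    Nat.card F.M =
      Nat.card (pp p F.M) * Nat.card ((F.P : Subgroup G) ⊓ F.M : Subgroup G) := by
  have : Fact F.q.Prime := ⟨F.q_prime⟩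
  set T := (F.P : Subgroup G) ⊓ F.M with hTdef
  have hTP : T ≤ (F.P : Subgroup G) := inf_le_left
  have hTp : IsPGroup p T := F.P.2.to_le hTP
  set C := centralizer (T : Set G) with hC
  obtain ⟨h, hh, hh1⟩ : ∃ h ∈ F.L, h ≠ 1 := by
    by_contra hcon
    push Not at hcon
    have := F.one_lt
    rw [(eq_bot_iff_forall F.L).2 hcon, card_bot] at this
    omega
  have hhC : h ∈ C := mem_centralizer_iff.2 fun t ht =>
    ((F.mem_M_iff hS ht.1 hh hh1).1 ht.2).symm
  have hO : pp p C = ⊥ := by
    by_contra hne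
    obtain ⟨y, hy, hy1⟩ : ∃ y ∈ pp p C, y ≠ 1 := by
      by_contra hcon
      push Not at hcon
      exact hne ((eq_bot_iff_forall _).2 hcon)
    have hOh : ∀ z ∈ pp p C, z * h = h * z := by
      have hsup : (Nat.card (Cfsg.pPrimeCore p C ⊔ zpowers (⟨h, hhC⟩ : C) : Subgroup C)).Coprime p :=
        PSolvable.coprime_card_sup PSolvable.pPrimeCore_coprime (by
          rw [Nat.card_zpowers, orderOf_mk]
          exact (F.L_coprime hS).coprime_dvd_left (orderOf_dvd_natCard _ hh))
      rintro _ ⟨z, hz, rfl⟩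
      exact hS.comm_of_coprime (H := (Cfsg.pPrimeCore p C ⊔ zpowers (⟨h, hhC⟩ : C)).map C.subtype)
        (by rwa [card_map_of_injective C.subtype_injective])
        (mem_map_of_mem C.subtype (mem_sup_left hz))
        (mem_map_of_mem C.subtype (x := (⟨h, hhC⟩ : C)) (mem_sup_right (mem_zpowers _)))
    have hOM : pp p C ≤ pp p F.M := fun z hz =>
      F.seed.mem_pp hS (F.seed.centralizer_le_of_mem_pp hS (F.L_le_pp hh) hh1
        (mem_centralizer_singleton_iff.2 (hOh z hz)))
        ((pp_coprime C).coprime_dvd_left (orderOf_dvd_natCard _ hz))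
    have hN : (F.P : Subgroup G) ⊓ normalizer (T : Set G) ≤ T := by
      rintro g ⟨hgP, hgN⟩
      refine ⟨hgP, F.seed.mem_of_conj_mem_pp hS (hOM hy) hy1 (hOM ?_)⟩
      refine (mem_normalizer_iff.1 (normalizer_le_normalizer_pp C ?_) y).1 hy
      refine PSolvable.mem_normalizer_of_conj_mem fun c hc => mem_centralizer_iff.2 fun t ht => ?_
      have h1 := mem_centralizer_iff.1 hc _ ((mem_normalizer_iff''.1 hgN t).1 ht)
      calc t * (g * c * g⁻¹) = g * ((g⁻¹ * t * g) * c) * g⁻¹ := by group
        _ = g * (c * (g⁻¹ * t * g)) * g⁻¹ := by rw [h1]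
        _ = g * c * g⁻¹ * t := by group
    refine F.T_ne hS ?_
    by_contra hne'
    have hlt : T < (F.P : Subgroup G) := lt_of_le_of_ne hTP fun he => hne' (he ▸ inf_le_right)
    exact (Transfer.lt_inf_normalizer F.P.2 hlt).not_ge hN
  have hNK : normalizer (T : Set G) ≤ zjN (F.P : Subgroup G) := by
    intro g hg
    obtain ⟨n, hn, hnT⟩ := hS.control F.P (X := (T : Set G)) (SetLike.coe_subset_coe.2 hTP) g
      fun x hx => hTP ((mem_normalizer_iff.1 hg x).1 hx)
    have hc : n⁻¹ * g ∈ C := mem_centralizer_iff.2 fun t ht => by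
      calc t * (n⁻¹ * g) = n⁻¹ * (n * t * n⁻¹) * g := by group
        _ = n⁻¹ * (g * t * g⁻¹) * g := by rw [hnT t ht]
        _ = n⁻¹ * g * t := by group
    obtain ⟨o, ho, m, hm, hom⟩ := hS.exists_factor_centralizer F.P hT hTP hc
    rw [hO, mem_bot] at ho
    rw [ho, one_mul] at hom
    have : n⁻¹ * g ∈ zjN (F.P : Subgroup G) := hom ▸ hm.2
    simpa using mul_mem hn this
  obtain ⟨S, hS'⟩ := (hTp.comap_subtype (K := F.M)).exists_le_sylow
  set S0 := (S : Subgroup F.M).map F.M.subtype with hS0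
  have hTS : T ≤ S0 := fun x hx => ⟨⟨x, hx.2⟩, hS' hx, rfl⟩
  have hST : S0 = T := by
    refine ((eq_or_lt_of_le hTS).resolve_right fun hlt => ?_).symm
    refine (Transfer.lt_inf_normalizer (S.2.map F.M.subtype) hlt).not_ge ?_
    rintro w ⟨hwS, hwN⟩
    refine ⟨?_, map_subtype_le _ hwS⟩
    obtain ⟨i, hi⟩ := (S.2.map F.M.subtype) ⟨w, hwS⟩
    have hX : IsPGroup p (zpowers w) := IsPGroup.of_card_dvd_pow (n := i) (by
      rw [Nat.card_zpowers]
      exact orderOf_dvd_of_pow_eq_one (by simpa using congrArg Subtype.val hi))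
    have h := F.P.3 (hX.to_sup_of_normal_right' F.P.2
      ((zpowers_le.2 (hNK hwN)).trans (hS.zjN_le_normalizer F.P))) le_sup_right
    exact h.le (mem_sup_left (mem_zpowers w))
  obtain ⟨k, hk⟩ := F.seed.exists_card_eq hS
  have hTc : Nat.card T = p ^ k := by
    rw [← hST, hS0, card_map_of_injective F.M.subtype_injective, S.card_eq_multiplicity]
    congr 1
    rw [hk, Nat.factorization_mul Nat.card_pos.ne' (pow_ne_zero k hp.out.ne_zero)]
    simp only [Finsupp.add_apply, hp.out.factorization_pow, Finsupp.single_eq_same]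
    rw [Nat.factorization_eq_zero_of_not_dvd
      ((hp.out.coprime_iff_not_dvd).1 (pp_coprime F.M).symm), zero_add]
  rw [hTc]
  exact hk

end Frame

theorem Setting.false (hS : Setting G p) : False := by
  obtain ⟨F⟩ := hS.exists_frame
  have : Fact F.q.Prime := ⟨F.q_prime⟩
  have hI := hS.npel_mul_eq F.P
  rw [npel_eq_card_pset, npel_eq_card_pset, F.card_eq] at hI
  have hR := F.pset_card hS
  have hPT := F.p_mul_T_le hS
  set T := Nat.card ((F.P : Subgroup G) ⊓ F.M : Subgroup G) with hTdef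
  set k := Nat.card F.L with hk
  set P := Nat.card (F.P : Subgroup G) with hP
  set g := Nat.card G with hg
  set N := (pset p (⊤ : Subgroup G)).card with hN
  set R := (pset p (zjN (F.P : Subgroup G))).card with hRdef
  have h5 := hS.five
  have hk2 : 2 ≤ k := F.one_lt
  have hP0 : 0 < P := Nat.card_pos
  by_cases hT : (F.P : Subgroup G) ⊓ F.M = ⊥
  · have hT1 : T = 1 := by rw [hTdef, hT, card_bot]
    rw [hT1, mul_one] at hR
    obtain ⟨n, hn, hNn⟩ := hS.card_pset_le
    rw [← hN, ← hg] at hNn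
    have hg8 : 8 * p ≤ g := by
      obtain ⟨Q⟩ : Nonempty (Sylow F.q G) := inferInstance
      have h3 := hS.sylow_three F.seed.ne_p F.seed.dvd Q
      have hq2 := F.q_prime.two_le
      have h8 : 8 ≤ Nat.card (omega F.q (Q : Subgroup G)) :=
        le_trans (le_trans (by norm_num) (Nat.pow_le_pow_left hq2 3)) h3
      have hc := hS.coprime_of_pGroup F.seed.ne_p (Q.2.to_le (omega_le F.q (Q : Subgroup G)))
      have := Nat.le_of_dvd Nat.card_pos
        (hc.mul_dvd_of_dvd_of_dvd (card_subgroup_dvd_card (omega F.q (Q : Subgroup G))) hS.p_dvd_card)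
      calc 8 * p ≤ Nat.card (omega F.q (Q : Subgroup G)) * p := Nat.mul_le_mul_right p h8
        _ ≤ g := this
    have h1 : g ≤ 2 * (N + 1) := by
      have h2k : P * 2 ≤ P * k := Nat.mul_le_mul_left P hk2
      have hcomm : k * P = P * k := mul_comm k P
      have hb : k * P ≤ 2 * (R + 1) := by omega
      refine Nat.le_of_mul_le_mul_right ?_ (Nat.mul_pos (show 0 < k by omega) hP0)
      calc g * (k * P) ≤ g * (2 * (R + 1)) := Nat.mul_le_mul_left g hb
        _ = 2 * ((R + 1) * g) := by ring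
        _ = 2 * ((N + 1) * (k * P)) := by rw [hI]
        _ = 2 * (N + 1) * (k * P) := by ring
    have hfin : p * g ≤ 2 * p + 2 * (n * g) := by
      have h2 : p * g ≤ p * (2 * (N + 1)) := Nat.mul_le_mul_left p h1
      have e : p * (2 * (N + 1)) = 2 * (p * N) + 2 * p := by ring
      omega
    have hn' : 2 * n ≤ 2 ^ n := by
      rcases n with _ | n
      · simp
      · have := Nat.lt_two_pow_self (n := n)
        rw [pow_succ]
        omega
    have h4 : 4 * p ≤ 1 + 8 * n := by
      refine Nat.le_of_mul_le_mul_right ?_ (show 0 < g by omega)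
      have ea : 4 * p * g = 4 * (p * g) := by ring
      have eb : (1 + 8 * n) * g = g + 8 * (n * g) := by ring
      omega
    omega
  · have hM := F.card_M hS hT
    have hU := F.seed.card_conjSet hS
    have hsub : (conjSet p F.M).card ≤ N := Finset.card_le_card Seed.conjSet_subset
    set h := Nat.card (pp p F.M) with hh
    rw [hM] at hU
    simp only [← hTdef, ← hg, ← hh] at hU
    have hkh : 2 * k ≤ h := by
      obtain ⟨c, hc⟩ : k ∣ h := card_dvd_of_le F.L_le_pp
      have hh0 : 0 < h := Nat.card_pos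
      rcases c with _ | _ | c
      · omega
      · exfalso
        have heq : F.L = pp p F.M :=
          eq_of_le_of_card_ge F.L_le_pp (le_of_eq (hc.trans (mul_one k)))
        obtain ⟨Q, hQ⟩ := F.seed.exists_sylow
        have hQc := hS.sylow_comm F.seed.ne_p Q.2
        have hle : omega F.q (Q : Subgroup G) ≤ zjN (F.P : Subgroup G) :=
          ((F.seed.sylow_le_pp' hS Q hQ).2.trans heq.ge).trans F.L_le
        have hcyc := hS.zjN_no_rank F.P F.seed.ne_p hle (Q.2.to_le (omega_le _ _))
          fun a ha => ((mem_omega hQc).1 ha).2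
        exact not_isCyclic_of_exp F.q_prime.two_le (fun a ha => ((mem_omega hQc).1 ha).2)
          ((Nat.pow_le_pow_right F.q_prime.pos (by norm_num)).trans
            (hS.sylow_three F.seed.ne_p F.seed.dvd Q)) hcyc
      · rw [hc, mul_comm 2 k]
        exact Nat.mul_le_mul_left k (by omega)
    have hT0 : 0 < T := Nat.card_pos
    have hg0 : 0 < g := Nat.card_pos
    have hh0 : 0 < h := Nat.card_pos
    have hhT : 0 < h * T := Nat.mul_pos hh0 hT0
    have hkP : 0 < k * P := Nat.mul_pos (by omega) hP0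
    have e1 : g * h < (N + 1) * (h * T) + g := by
      have h1 : (conjSet p F.M).card * (h * T) ≤ N * (h * T) := Nat.mul_le_mul_right _ hsub
      rw [add_mul, one_mul]
      omega
    have e2 : g * (T + P * k) = (R + 1) * g * T + g * P := by
      rw [← hR]
      ring
    rw [← hI] at e2
    have e3 : g * h * (k * P) < ((N + 1) * (h * T) + g) * (k * P) :=
      Nat.mul_lt_mul_of_pos_right e1 hkP
    have e5 : g * (T + P * k) * h = ((N + 1) * (k * P) * T + g * P) * h := by rw [e2]
    have e6 : g * (P * h) < g * (h * T + P * k) := by linarith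
    have e7 : P * h < h * T + P * k := Nat.lt_of_mul_lt_mul_left e6
    have h3 : 2 * (P * k) ≤ P * h := by
      rw [mul_left_comm]
      exact Nat.mul_le_mul_left P hkh
    have h4 : P < 2 * T := by
      refine Nat.lt_of_mul_lt_mul_right (a := h) ?_
      have e8 : 2 * T * h = 2 * (h * T) := by ring
      omega
    have h5' : 5 * T ≤ p * T := Nat.mul_le_mul_right T h5
    omega

end

universe v

theorem isSolvable_of_pPrime_abelian {G : Type v} [Group G] [Finite G] {p : ℕ} [hp : Fact p.Prime]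
    (h : ∀ H : Subgroup G, (Nat.card H).Coprime p →
      IsMulCommutative H ∧ ∀ x ∈ H, x ^ (p - 1) = 1) : Group.IsSolvable G := by
  induction hn : Nat.card G using Nat.strong_induction_on generalizing G with
  | _ n ih =>
  subst hn
  have hsub : ∀ H : Subgroup G, H ≠ ⊤ → Group.IsSolvable H := by
    intro H hH
    refine ih _ (lt_of_le_of_ne (card_le_card_group H) fun e => hH (eq_top_of_card_eq H e)) ?_ rfl
    intro U hU
    obtain ⟨hc, hx⟩ := h (U.map H.subtype) (by rwa [card_map_of_injective H.subtype_injective])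
    refine ⟨⟨⟨fun a b => Subtype.ext (Subtype.ext (congrArg (fun z : _root_.Subtype _ => (z : G))
      (hc.is_comm.comm ⟨_, mem_map_of_mem H.subtype a.2⟩ ⟨_, mem_map_of_mem H.subtype b.2⟩)))⟩⟩,
      fun x hx' => Subtype.ext ?_⟩
    simpa using hx _ (mem_map_of_mem H.subtype hx')
  by_contra hns
  by_cases hN : ∃ N : Subgroup G, N.Normal ∧ N ≠ ⊥ ∧ N ≠ ⊤
  · obtain ⟨N, hNn, hN1, hNt⟩ := hN
    have hNs := hsub N hNt
    suffices Group.IsSolvable (G ⧸ N) from
      hns ((Group.isSolvable_iff_subgroup_quotient N).2 ⟨hNs, this⟩)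
    set f := QuotientGroup.mk' N with hf
    have hfs : Function.Surjective f := QuotientGroup.mk'_surjective N
    have hcard : Nat.card (G ⧸ N) < Nat.card G := by
      rw [Subgroup.card_eq_card_quotient_mul_card_subgroup N]
      exact lt_mul_of_one_lt_right Nat.card_pos
        (Finite.one_lt_card_iff_nontrivial.2 ((nontrivial_iff_ne_bot N).2 hN1))
    by_cases hpN : (Nat.card (G ⧸ N)).Coprime p
    · obtain ⟨P⟩ : Nonempty (Sylow p G) := inferInstance
      have hPN : (P : Subgroup G) ≤ N := by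
        intro x hx
        obtain ⟨i, hi⟩ := P.2 ⟨x, hx⟩
        refine (QuotientGroup.eq_one_iff x).1 (orderOf_eq_one_iff.1 (Nat.eq_one_of_dvd_coprimes
          (Nat.Coprime.pow_right i hpN) (orderOf_dvd_natCard _) (orderOf_dvd_of_pow_eq_one ?_)))
        rw [← QuotientGroup.mk_pow, show x ^ p ^ i = 1 by simpa using congrArg Subtype.val hi,
          QuotientGroup.mk_one]
      by_cases hPn : normalizer ((P : Subgroup G) : Set G) = ⊤
      · have hPn' : (P : Subgroup G).Normal := normalizer_eq_top_iff.1 hPn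
        obtain ⟨C, hC⟩ := exists_right_complement'_of_coprime P.card_coprime_index
        have hCp : (Nat.card C).Coprime p := by
          rw [← hC.symm.index_eq_card]
          exact ((Fact.out : p.Prime).coprime_iff_not_dvd.2 P.not_dvd_index).symm
        have hCc := (h C hCp).1
        have hCs : Group.IsSolvable C := Group.isSolvable_of_comm hCc.is_comm.comm
        refine Group.isSolvable_of_surjective (f := f.comp C.subtype) fun z => ?_
        obtain ⟨x, rfl⟩ := hfs z
        obtain ⟨⟨a, c⟩, hac⟩ := hC.2 x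
        refine ⟨c, ?_⟩
        show f c = f x
        rw [← hac]
        show f c = f ((a : G) * c)
        rw [map_mul, show f (a : G) = 1 from (QuotientGroup.eq_one_iff _).2 (hPN a.2), one_mul]
      · have hNs' := hsub _ hPn
        refine Group.isSolvable_of_surjective
          (f := f.comp (normalizer ((P : Subgroup G) : Set G)).subtype) fun z => ?_
        obtain ⟨x, rfl⟩ := hfs z
        have hmem : x ∈ normalizer ((P : Subgroup G) : Set G) ⊔ N := by
          have e : normalizer ((P : Subgroup G) : Set G) ⊔ N = ⊤ :=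
            Sylow.normalizer_sup_eq_top' P hPN
          rw [e]; exact mem_top x
        rw [← SetLike.mem_coe, Subgroup.mul_normal] at hmem
        obtain ⟨a, ha, b, hb, rfl⟩ := hmem
        refine ⟨⟨a, ha⟩, ?_⟩
        show f a = f (a * b)
        rw [map_mul, show f b = 1 from (QuotientGroup.eq_one_iff b).2 hb, mul_one]
    · refine ih _ hcard ?_ rfl
      intro U hU
      set V := U.comap f with hV
      have hVt : V ≠ ⊤ := by
        intro hVt
        refine hpN ?_
        have : U = ⊤ := by rw [← map_comap_eq_self_of_surjective hfs U, ← hV, hVt,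
          map_top_of_surjective f hfs]
        rwa [this, card_top] at hU
      obtain ⟨L, hLV, -, hLc, k, hk⟩ := exists_hall_ge (p := p) (hsub V hVt) (bot_le : ⊥ ≤ V)
        (by simp)
      have hLU : L.map f = U := by
        refine eq_of_le_of_card_ge (map_le_iff_le_comap.2 hLV) (Nat.le_of_dvd Nat.card_pos ?_)
        have h1 : (L.map f).relIndex (V.map f) ∣ L.relIndex V := by
          rw [relIndex_map_map, sup_of_le_left (show f.ker ≤ V from MonoidHom.ker_le_comap f U)]
          exact relIndex_dvd_of_le_left V le_sup_left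
        rw [map_comap_eq_self_of_surjective hfs U] at h1
        have hmap := map_le_iff_le_comap.2 hLV
        have h2 := PSolvable.card_mul_relIndex hmap
        have h3 := PSolvable.card_mul_relIndex hLV
        rw [hk] at h3
        have h4 : L.relIndex V = p ^ k := Nat.eq_of_mul_eq_mul_left Nat.card_pos h3
        rw [h4] at h1
        have h5 : (L.map f).relIndex U = 1 :=
          Nat.eq_one_of_dvd_coprimes (Nat.Coprime.pow_right k hU)
            (Dvd.intro_left _ h2) h1
        rw [h5, mul_one] at h2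
        rw [h2]
      obtain ⟨hc, hx⟩ := h L hLc
      rw [← hLU]
      refine ⟨⟨⟨fun a b => ?_⟩⟩, ?_⟩
      · obtain ⟨a', ha', hae⟩ := a.2
        obtain ⟨b', hb', hbe⟩ := b.2
        apply Subtype.ext
        show (a : G ⧸ N) * b = b * a
        rw [← hae, ← hbe, ← map_mul, ← map_mul]
        exact congrArg f (congrArg Subtype.val (hc.is_comm.comm ⟨a', ha'⟩ ⟨b', hb'⟩))
      · rintro _ ⟨a, ha, rfl⟩
        rw [← map_pow, hx a ha, map_one]
  · push Not at hN
    have hnt : Nontrivial G := by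
      by_contra hc
      rw [not_nontrivial_iff_subsingleton] at hc
      exact hns (Group.isSolvable_of_comm fun a b => Subsingleton.elim _ _)
    have hsimple : IsSimpleGroup G :=
      { eq_bot_or_eq_top_of_normal := fun N hn => or_iff_not_imp_left.2 (hN N hn) }
    by_cases h5 : 5 ≤ p
    · have := Fintype.ofFinite G
      exact Setting.false (p := p) ⟨h5, hsimple, hns, hsub, h⟩
    -- `p ≤ 3`: Burnside
    refine hns ?_
    have hp3 : p = 2 ∨ p = 3 := by
      have := hp.out.two_le
      have h4 : p ≠ 4 := fun he => by rw [he] at hp; exact absurd hp.out (by norm_num)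
      omega
    have hpr : ∀ r : ℕ, r.Prime → r ∣ Nat.card G → r = p ∨ r = 2 := by
      intro r hr hd
      have : Fact r.Prime := ⟨hr⟩
      by_cases hrp : r = p
      · exact Or.inl hrp
      right
      obtain ⟨x, hx⟩ := exists_prime_orderOf_dvd_card' r hd
      have hc : (Nat.card (zpowers x)).Coprime p := by
        rw [Nat.card_zpowers, hx]; exact (Nat.coprime_primes hr hp.out).2 hrp
      have h1 := orderOf_dvd_of_pow_eq_one ((h _ hc).2 x (mem_zpowers x))
      rw [hx] at h1
      have h2 := hr.two_le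
      rcases hp3 with rfl | rfl
      · have := Nat.le_of_dvd (by norm_num) h1
        omega
      · have := Nat.le_of_dvd (by norm_num) h1
        omega
    refine Burnside.isSolvable_of_card_eq_prime_pow_mul (G := G) (p := 2) (q := 3)
      (a := (Nat.card G).factorization 2) (b := (Nat.card G).factorization 3)
      Nat.prime_two Nat.prime_three ?_
    refine Nat.eq_of_factorization_eq Nat.card_pos.ne' (by positivity) fun r => ?_
    rw [Nat.factorization_mul (by positivity) (by positivity), Nat.prime_two.factorization_pow,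
      Nat.prime_three.factorization_pow, Finsupp.add_apply]
    by_cases hr2 : r = 2
    · subst hr2; simp
    by_cases hr3 : r = 3
    · subst hr3; simp
    rw [Finsupp.single_eq_of_ne (Ne.symm hr2 |>.symm), Finsupp.single_eq_of_ne hr3, add_zero]
    by_cases hrd : r.Prime ∧ r ∣ Nat.card G
    · rcases hpr r hrd.1 hrd.2 with h' | h' <;> omega
    · rw [not_and_or] at hrd
      rcases hrd with h' | h'
      · exact Nat.factorization_eq_zero_of_not_prime _ h'
      · exact Nat.factorization_eq_zero_of_not_dvd h'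

end Cfsg.Agent.Lib.PrimeAbelian
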